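import Groth.Agent.H64.SpQ.PtsB

/-!
# The action of a group over a base sheaf on points of the underlying sheaves
-/

set_option autoImplicit false
universe u
open CategoryTheory CategoryTheory.Limits MonoidalCategory CartesianMonoidalCategory MonObj GrpObj
  AlgebraicGeometry Opposite

namespace Groth.Agent.H64.SpQ

open AlgSp AlgSt

variable {S : Scheme.{u}} {K : Precoverage Scheme.{u}} {B : AlgSp.Sp S} {G : Over B} [GrpObj G]
  {X : Over B} {aX : AlgSp.GAction G X}

section general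

variable {Z Z' : Over B} (a : AlgSp.GAction G Z) (a' : AlgSp.GAction G Z')

/-- the action on points of the underlying sheaves -/
noncomputable def actL {W : Over S} (ga : (yon S).obj W ⟶ G.left) (p : (yon S).obj W ⟶ Z.left)
    (h : ga ≫ G.hom = p ≫ Z.hom) : (yon S).obj W ⟶ Z.left :=
  (lift (Over.homMk ga h : yB W (p ≫ Z.hom) ⟶ G) (ptOf p) ≫ a.act).left

theorem lift_act_left_congr {W : Over S} {β β' : (yon S).obj W ⟶ B} (ga : yB W β ⟶ G)
    (p : yB W β ⟶ Z) (ga' : yB W β' ⟶ G) (p' : yB W β' ⟶ Z) (h1 : ga.left = ga'.left)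
    (h2 : p.left = p'.left) : (lift ga p ≫ a.act).left = (lift ga' p' ≫ a.act).left := by
  obtain ⟨e, -⟩ := pt_congr p p' h2
  subst e
  have e1 : ga = ga' := Over.OverMorphism.ext h1
  have e2 : p = p' := Over.OverMorphism.ext h2
  rw [e1, e2]

theorem lift_act_left {W : Over S} {β : (yon S).obj W ⟶ B} (ga : yB W β ⟶ G) (p : yB W β ⟶ Z) :
    (lift ga p ≫ a.act).left = actL a ga.left p.left ((Over.w ga).trans (Over.w p).symm) :=
  lift_act_left_congr a _ _ _ _ rfl rfl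

theorem actL_congr {W : Over S} {ga ga' : (yon S).obj W ⟶ G.left} {p p' : (yon S).obj W ⟶ Z.left}
    (h1 : ga = ga') (h2 : p = p') (h : ga ≫ G.hom = p ≫ Z.hom) (h' : ga' ≫ G.hom = p' ≫ Z.hom) :
    actL a ga p h = actL a ga' p' h' := by
  subst h1 h2
  rfl

theorem actL_hom {W : Over S} (ga : (yon S).obj W ⟶ G.left) (p : (yon S).obj W ⟶ Z.left)
    (h : ga ≫ G.hom = p ≫ Z.hom) : actL a ga p h ≫ Z.hom = p ≫ Z.hom :=
  Over.w (lift (Over.homMk ga h : yB W (p ≫ Z.hom) ⟶ G) (ptOf p) ≫ a.act)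

theorem actL_comp {W W' : Over S} (v : W' ⟶ W) (ga : (yon S).obj W ⟶ G.left)
    (p : (yon S).obj W ⟶ Z.left) (h : ga ≫ G.hom = p ≫ Z.hom) :
    (yon S).map v ≫ actL a ga p h = actL a ((yon S).map v ≫ ga) ((yon S).map v ≫ p)
      (by rw [Category.assoc, Category.assoc, h]) := by
  have h1 : (yon S).map v ≫ actL a ga p h =
      (lift (rB v _ ≫ (Over.homMk ga h : yB W (p ≫ Z.hom) ⟶ G)) (rB v _ ≫ ptOf p) ≫ a.act).left := by
    rw [← comp_lift, Category.assoc]
    rfl
  rw [h1, lift_act_left]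
  exact actL_congr a rfl rfl _ _

theorem actL_map (f : Z ⟶ Z') (hf : a.act ≫ f = (G ◁ f) ≫ a'.act) {W : Over S}
    (ga : (yon S).obj W ⟶ G.left) (p : (yon S).obj W ⟶ Z.left) (h : ga ≫ G.hom = p ≫ Z.hom) :
    actL a ga p h ≫ f.left = actL a' ga (p ≫ f.left) (by rw [h, Category.assoc, Over.w f]) := by
  have h1 : actL a ga p h ≫ f.left =
      (lift (Over.homMk ga h : yB W (p ≫ Z.hom) ⟶ G) (ptOf p ≫ f) ≫ a'.act).left := by
    change ((lift _ _ ≫ a.act) ≫ f).left = _
    rw [Category.assoc, hf, ← Category.assoc]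
    congr 2
    apply CartesianMonoidalCategory.hom_ext
    · simp only [Category.assoc, whiskerLeft_fst, lift_fst]
    · simp only [Category.assoc, whiskerLeft_snd, lift_snd, lift_snd_assoc]
  rw [h1, lift_act_left]
  exact actL_congr a' rfl rfl _ _

theorem actL_one {W : Over S} {β : (yon S).obj W ⟶ B} (p : (yon S).obj W ⟶ Z.left)
    (hβ : p ≫ Z.hom = β) :
    actL a (1 : yB W β ⟶ G).left p ((Over.w (1 : yB W β ⟶ G)).trans hβ.symm) = p := by
  subst hβ
  have h1 := lift_act_left a (1 : yB W (p ≫ Z.hom) ⟶ G) (ptOf p)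
  rw [act_one_pt a (ptOf p)] at h1
  exact h1.symm

theorem actL_mul {W : Over S} {β : (yon S).obj W ⟶ B} (ga de : yB W β ⟶ G)
    (p : (yon S).obj W ⟶ Z.left) (hβ : p ≫ Z.hom = β) :
    actL a (ga * de).left p ((Over.w (ga * de)).trans hβ.symm) =
      actL a ga.left (actL a de.left p ((Over.w de).trans hβ.symm))
        ((Over.w ga).trans (hβ.symm.trans (actL_hom a _ _ _).symm)) := by
  subst hβ
  have h1 := lift_act_left a (ga * de) (ptOf p)
  rw [act_mul_pt a ga de (ptOf p), lift_act_left] at h1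
  refine h1.symm.trans ?_
  refine actL_congr a rfl ?_ _ _
  exact lift_act_left a de (ptOf p)

end general

section torsor

variable (A : SpQuotObj K G aX)

theorem actL_π {W : Over S} (ga : (yon S).obj W ⟶ G.left) (p : (yon S).obj W ⟶ A.P.left)
    (h : ga ≫ G.hom = p ≫ A.P.hom) : actL A.act ga p h ≫ A.π.left = p ≫ A.π.left :=
  congrArg CommaMorphism.left
    (actPt_π A (Over.homMk ga h : yB W (p ≫ A.P.hom) ⟶ G) (ptOf p))

theorem actL_inj {W : Over S} (ga ga' : (yon S).obj W ⟶ G.left) (p : (yon S).obj W ⟶ A.P.left)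
    (h : ga ≫ G.hom = p ≫ A.P.hom) (h' : ga' ≫ G.hom = p ≫ A.P.hom)
    (e : actL A.act ga p h = actL A.act ga' p h') : ga = ga' := by
  have := actPt_inj A (Over.homMk ga h : yB W (p ≫ A.P.hom) ⟶ G) (Over.homMk ga' h') (ptOf p)
    (Over.OverMorphism.ext e)
  exact congrArg CommaMorphism.left this

theorem exists_actL_eq {W : Over S} (p₁ p₂ : (yon S).obj W ⟶ A.P.left)
    (h : p₁ ≫ A.π.left = p₂ ≫ A.π.left) :
    ∃ (ga : (yon S).obj W ⟶ G.left) (h' : ga ≫ G.hom = p₂ ≫ A.P.hom),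
      actL A.act ga p₂ h' = p₁ := by
  have hB : p₁ ≫ A.P.hom = p₂ ≫ A.P.hom := by
    have h1 : A.π.left ≫ A.b = A.P.hom := Over.w A.π
    rw [← h1, ← Category.assoc, h, Category.assoc]
  let q₁ : yB W (p₂ ≫ A.P.hom) ⟶ A.P := Over.homMk p₁ hB
  obtain ⟨ga, hga⟩ := exists_actPt_eq A q₁ (ptOf p₂) (Over.OverMorphism.ext h)
  refine ⟨ga.left, Over.w ga, ?_⟩
  have h2 : (actPt A ga (ptOf p₂)).left = p₁ := congrArg CommaMorphism.left hga
  exact (lift_act_left A.act ga (ptOf p₂)).symm.trans h2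

end torsor

end Groth.Agent.H64.SpQ
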