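import Groth.Agent.H64.Boot6.FppfLocal
import Groth.Prelude.Def_AlgSt6
import Groth.Prelude.Def_AlgSt3

/-!
# Sheaf torsors under a group algebraic space are algebraic spaces

`isAlgSpace_torsor`: for an object `A` of `[X/G]` (torsors as sheaves, trivialised fppf locally)
with `B` and `G` algebraic spaces, the total sheaf of the torsor is an algebraic space.
-/

set_option autoImplicit false
universe u
open CategoryTheory CategoryTheory.Limits MonoidalCategory CartesianMonoidalCategory MonObj GrpObj
  AlgebraicGeometry Opposite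

namespace Groth.Agent.H64.SpQ

open AlgSp AlgSt

variable {S : Scheme.{u}} {K : Precoverage Scheme.{u}} {B : AlgSp.Sp S} {G : Over B} [GrpObj G]
  {X : Over B} {aX : AlgSp.GAction G X}

/-- A pseudo-torsor with a section over `T'` is trivial over `T'`: the square
`G ×_B T' ⟶ P` over `T' ⟶ T` is cartesian. -/
theorem isPullback_triv (A : SpQuotObj K G aX) {T' : Over B} (σ : T' ⟶ A.P) :
    IsPullback ((G ◁ σ) ≫ A.act.act) (snd G T') A.π (σ ≫ A.π) :=
  (isPullback_whiskerLeft' σ).paste_horiz A.cart

omit [GrpObj G] in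
/-- The underlying sheaf of `G ×_B T` is the fibre product of sheaves. -/
theorem isPullback_left_fst_snd (T : Over B) :
    IsPullback (fst G T).left (snd G T).left G.hom T.hom := by
  have h := (isPullback_fst_snd' G T).map (Over.forget B)
  have e1 : (toUnit G).left = G.hom := by
    have := Over.w (toUnit G)
    simpa using this
  have e2 : (toUnit T).left = T.hom := by
    have := Over.w (toUnit T)
    simpa using this
  simpa [e1, e2] using h

omit [GrpObj G] in
theorem isAlgSpace_tensor_left (hB : IsAlgSpace B) (hG : IsAlgSpace G.left) (T : Over B)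
    (hT : IsAlgSpace T.left) : IsAlgSpace (G ⊗ T).left :=
  Groth.Agent.H49.isAlgSpace_of_isPullback (isPullback_left_fst_snd T) hB.diag hG hT

end Groth.Agent.H64.SpQ

namespace Groth.Agent.H64.SpQ

open AlgSp AlgSt

variable {S : Scheme.{u}} {B : AlgSp.Sp S} {G : Over B} [GrpObj G]
  {X : Over B} {aX : AlgSp.GAction G X}

/-- The total sheaf of an fppf-locally trivial sheaf torsor under a group algebraic space over an
algebraic space is an algebraic space. -/
theorem isAlgSpace_torsor (hB : IsAlgSpace B) (hG : IsAlgSpace G.left)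
    (A : SpQuotObj Scheme.fppfPrecoverage G aX) : IsAlgSpace A.P.left := by
  obtain ⟨R, hR, hsec⟩ := A.loc
  -- a small subfamily of the covering
  have hjs : ∀ x : ↥A.base.left, ∃ (Y : Scheme.{u}) (g : Y ⟶ A.base.left), R g ∧ x ∈ Set.range g :=
    fun x => Scheme.JointlySurjective.exists_eq (K := Scheme.precoverage
      (@Flat ⊓ @LocallyOfFinitePresentation)) R hR x
  choose Y g hgR hgx using hjs
  have hP : ∀ x, (@Flat ⊓ @LocallyOfFinitePresentation : MorphismProperty Scheme.{u}) (g x) :=
    fun x => hR.2 (hgR x)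
  let Ui : ↥A.base.left → Over S := fun x => Over.mk (g x ≫ A.base.hom)
  let u : ∀ x, Ui x ⟶ A.base := fun x => Over.homMk (g x) rfl
  refine Groth.Agent.H64.Boot6.isAlgSpace_of_fppf_cover_schemes Ui u (fun x => (hP x).1)
    (fun x => (hP x).2) (fun x => ?_) A.P.left A.π.left (fun x => ?_)
  · obtain ⟨y, hy⟩ := hgx x
    exact ⟨x, y, hy⟩
  · obtain ⟨s, hs⟩ := hsec (g x) (hgR x)
    -- the section as a morphism over `B`
    let T' : Over B := Over.mk ((AlgSp.yon S).map (u x) ≫ A.b)
    have hsB : s ≫ A.P.hom = T'.hom := by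
      have h1 : A.π.left ≫ A.b = A.P.hom := Over.w A.π
      change s ≫ A.P.hom = (AlgSp.yon S).map (u x) ≫ A.b
      rw [← h1, ← Category.assoc, hs]
    let σ : T' ⟶ A.P := Over.homMk s hsB
    have hpb := (isPullback_triv A σ).map (Over.forget B)
    have hσπ : (σ ≫ A.π).left = (AlgSp.yon S).map (u x) := hs
    have hpb' : IsPullback ((G ◁ σ) ≫ A.act.act).left (snd G T').left A.π.left
        ((AlgSp.yon S).map (u x)) := by
      rw [← hσπ]; exact hpb
    have hT' : IsAlgSpace T'.left := IsAlgSpace.yon_obj _
    have hGT : IsAlgSpace (G ⊗ T').left := isAlgSpace_tensor_left hB hG T' hT'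
    exact hGT.of_iso hpb'.isoPullback

end Groth.Agent.H64.SpQ
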