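import Groth.Agent.H64.SpQ.Pts
import Groth.Agent.H64.SpQ.TorsAlg

/-!
# Sheaf torsors: points in the slice over the base sheaf, the sieve of local sections
-/

set_option autoImplicit false
universe u
open CategoryTheory CategoryTheory.Limits MonoidalCategory CartesianMonoidalCategory MonObj GrpObj
  AlgebraicGeometry Opposite

namespace Groth.Agent.H64.SpQ

open AlgSp AlgSt

variable {S : Scheme.{u}} {B : AlgSp.Sp S}

/-- a scheme over `S` with a section of `B`, as an object over `B` -/
abbrev yB (W : Over S) (β : (yon S).obj W ⟶ B) : Over B := Over.mk β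

/-- restriction of points -/
abbrev rB {W' W : Over S} (v : W' ⟶ W) (β : (yon S).obj W ⟶ B) :
    yB W' ((yon S).map v ≫ β) ⟶ yB W β := bHom v rfl

/-- morphisms over `B` are determined by their values on points with values in schemes -/
theorem hom_ext_pts {Z Z' : Over B} (f g : Z ⟶ Z')
    (h : ∀ (W : Over S) (β : (yon S).obj W ⟶ B) (p : yB W β ⟶ Z), p ≫ f = p ≫ g) : f = g := by
  apply Over.OverMorphism.ext
  refine Groth.Agent.H53.sp_hom_ext fun W p => ?_
  have := congrArg CommaMorphism.left (h W (p ≫ Z.hom) (Over.homMk p rfl))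
  exact this

/-- a point of an object over `B` from a point of its underlying sheaf -/
abbrev ptOf {Z : Over B} {W : Over S} (p : (yon S).obj W ⟶ Z.left) : yB W (p ≫ Z.hom) ⟶ Z :=
  Over.homMk p rfl

/-- a commutative square over `B` which is cartesian on points with values in schemes is
cartesian -/
theorem isPullback_of_pts {P A A' C : Over B} {fst : P ⟶ A} {snd : P ⟶ A'} {f : A ⟶ C}
    {g : A' ⟶ C} (w : fst ≫ f = snd ≫ g)
    (h : ∀ (W : Over S) (β : (yon S).obj W ⟶ B) (a : yB W β ⟶ A) (b : yB W β ⟶ A'),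
      a ≫ f = b ≫ g → ∃ p : yB W β ⟶ P, p ≫ fst = a ∧ p ≫ snd = b)
    (hu : ∀ (W : Over S) (β : (yon S).obj W ⟶ B) (p p' : yB W β ⟶ P),
      p ≫ fst = p' ≫ fst → p ≫ snd = p' ≫ snd → p = p') : IsPullback fst snd f g := by
  apply IsPullback.of_map (Over.forget B) w
  refine Groth.Agent.H51.isPullback_of_forall_yon (congrArg CommaMorphism.left w) ?_
  intro T (a : (yon S).obj T ⟶ A.left) (b : (yon S).obj T ⟶ A'.left)
    (hab : a ≫ f.left = b ≫ g.left)
  have hβ : a ≫ A.hom = b ≫ A'.hom := by
    calc a ≫ A.hom = (a ≫ f.left) ≫ C.hom := by rw [Category.assoc, Over.w f]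
      _ = (b ≫ g.left) ≫ C.hom := by rw [hab]
      _ = b ≫ A'.hom := by rw [Category.assoc, Over.w g]
  let a' : yB T (a ≫ A.hom) ⟶ A := Over.homMk a rfl
  let b' : yB T (a ≫ A.hom) ⟶ A' := Over.homMk b hβ.symm
  obtain ⟨p, hp1, hp2⟩ := h T (a ≫ A.hom) a' b' (by
    apply Over.OverMorphism.ext
    exact hab)
  refine ⟨p.left, ⟨congrArg CommaMorphism.left hp1, congrArg CommaMorphism.left hp2⟩, ?_⟩
  rintro (q : (yon S).obj T ⟶ P.left) ⟨(hq1 : q ≫ fst.left = a), (hq2 : q ≫ snd.left = b)⟩
  have hqβ : q ≫ P.hom = a ≫ A.hom := by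
    calc q ≫ P.hom = (q ≫ fst.left) ≫ A.hom := by rw [Category.assoc, Over.w fst]
      _ = a ≫ A.hom := by rw [hq1]
  let q' : yB T (a ≫ A.hom) ⟶ P := Over.homMk q hqβ
  have : q' = p := by
    apply hu
    · apply Over.OverMorphism.ext
      exact hq1.trans (congrArg CommaMorphism.left hp1).symm
    · apply Over.OverMorphism.ext
      exact hq2.trans (congrArg CommaMorphism.left hp2).symm
  exact congrArg CommaMorphism.left this

end Groth.Agent.H64.SpQ

namespace Groth.Agent.H64.SpQ

open AlgSp AlgSt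

variable {S : Scheme.{u}} {K : Precoverage Scheme.{u}} {B : AlgSp.Sp S} {G : Over B} [GrpObj G]
  {X : Over B}

section action

variable (a : AlgSp.GAction G X)

/-- the unit acts trivially on points -/
theorem act_one_pt {T : Over B} (x : T ⟶ X) : lift (1 : T ⟶ G) x ≫ a.act = x := by
  have h : lift (1 : T ⟶ G) x = lift (toUnit T) x ≫ (η[G] ▷ X) := by
    apply CartesianMonoidalCategory.hom_ext
    · rw [lift_fst, Category.assoc, whiskerRight_fst, lift_fst_assoc, Hom.one_def]
    · rw [lift_snd, Category.assoc, whiskerRight_snd, lift_snd]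
  rw [h, Category.assoc, a.one_act, leftUnitor_hom, lift_snd]

/-- compatibility of the action with products, on points -/
theorem act_mul_pt {T : Over B} (g h : T ⟶ G) (x : T ⟶ X) :
    lift (g * h) x ≫ a.act = lift g (lift h x ≫ a.act) ≫ a.act := by
  have hμ : fst (G ⊗ G) X ≫ μ[G] = (fst _ _ ≫ fst G G) * (fst _ _ ≫ snd G G) := by
    rw [Hom.mul_def, ← comp_lift, lift_fst_snd, Category.comp_id]
  have h1 : lift (g * h) x = lift (lift g h) x ≫ (μ[G] ▷ X) := by
    apply CartesianMonoidalCategory.hom_ext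
    · simp only [Category.assoc, lift_fst, whiskerRight_fst, hμ, comp_mul, lift_fst_assoc,
        lift_snd]
    · simp only [Category.assoc, lift_snd, whiskerRight_snd]
  have h2 : lift (lift g h) x ≫ (α_ G G X).hom ≫ (G ◁ a.act) = lift g (lift h x ≫ a.act) := by
    rw [lift_lift_associator_hom_assoc]
    apply CartesianMonoidalCategory.hom_ext
    · simp only [Category.assoc, whiskerLeft_fst, lift_fst]
    · simp only [Category.assoc, whiskerLeft_snd, lift_snd, lift_snd_assoc]
  rw [h1, Category.assoc, a.mul_act, reassoc_of% h2]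

/-- an action from its description on points -/
noncomputable def actionOfPts {P : Over B} (act : G ⊗ P ⟶ P)
    (h1 : ∀ {T : Over B} (p : T ⟶ P), lift (1 : T ⟶ G) p ≫ act = p)
    (h2 : ∀ {T : Over B} (g h : T ⟶ G) (p : T ⟶ P),
      lift (g * h) p ≫ act = lift g (lift h p ≫ act) ≫ act) : AlgSp.GAction G P where
  act := act
  one_act := by
    have e : (η[G] ▷ P) = lift (1 : 𝟙_ (Over B) ⊗ P ⟶ G) (snd _ P) := by
      apply CartesianMonoidalCategory.hom_ext
      · rw [whiskerRight_fst, lift_fst, Hom.one_def, toUnit_unique (fst _ _) (toUnit _)]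
      · rw [whiskerRight_snd, lift_snd]
    rw [e, h1, leftUnitor_hom]
  mul_act := by
    have hμ : fst (G ⊗ G) P ≫ μ[G] = (fst _ _ ≫ fst G G) * (fst _ _ ≫ snd G G) := by
      rw [Hom.mul_def, ← comp_lift, lift_fst_snd, Category.comp_id]
    have e1 : (μ[G] ▷ P) = lift ((fst (G ⊗ G) P ≫ fst G G) * (fst (G ⊗ G) P ≫ snd G G))
        (snd (G ⊗ G) P) := by
      apply CartesianMonoidalCategory.hom_ext
      · rw [whiskerRight_fst, lift_fst, hμ]
      · rw [whiskerRight_snd, lift_snd]
    have e2 : (α_ G G P).hom ≫ (G ◁ act) = lift (fst (G ⊗ G) P ≫ fst G G)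
        (lift (fst (G ⊗ G) P ≫ snd G G) (snd (G ⊗ G) P) ≫ act) := by
      apply CartesianMonoidalCategory.hom_ext
      · simp only [Category.assoc, whiskerLeft_fst, associator_hom_fst, lift_fst]
      · simp only [Category.assoc, whiskerLeft_snd, lift_snd]
        rw [← Category.assoc]
        congr 1
        apply CartesianMonoidalCategory.hom_ext
        · simp only [Category.assoc, associator_hom_snd_fst, lift_fst]
        · simp only [Category.assoc, associator_hom_snd_snd, lift_snd]
    rw [e1, h2, ← Category.assoc, e2]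

end action

variable {aX : AlgSp.GAction G X}

/-- the base of an object of `[X/G]` as an object over `B` -/
abbrev bs (A : SpQuotObj K G aX) : Over B := Over.mk A.b

/-- the base of a morphism of `[X/G]` as a morphism over `B` -/
abbrev hbs {A A' : SpQuotObj K G aX} (h : A ⟶ A') : bs A ⟶ bs A' := bHom h.base h.wb

theorem hbs_comp {A A' A'' : SpQuotObj K G aX} (h : A ⟶ A') (h' : A' ⟶ A'') :
    hbs (h ≫ h') = hbs h ≫ hbs h' := by
  apply Over.OverMorphism.ext
  simp

theorem hom_cart {A A' : SpQuotObj K G aX} (h : A ⟶ A') : IsPullback h.top A.π A'.π (hbs h) :=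
  h.cart

/-- every morphism of `[X/G]` is cartesian -/
theorem hom_ext_of_comp {A A' C : SpQuotObj K G aX} (m : A' ⟶ A) {χ χ' : C ⟶ A'}
    (hb : χ.base = χ'.base) (h : χ ≫ m = χ' ≫ m) : χ = χ' := by
  apply SpQuotObj.hom_ext hb
  apply m.cart.hom_ext
  · exact congrArg SpQuotObj.Hom.top h
  · rw [χ.cart.w, χ'.cart.w]
    congr 1
    apply Over.OverMorphism.ext
    change (yon S).map χ.base = (yon S).map χ'.base
    rw [hb]

/-- the sieve of morphisms to the base of a torsor along which the torsor has a section -/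
def secSieve (A : SpQuotObj K G aX) : Sieve A.base where
  arrows T t := ∃ s : (yon S).obj T ⟶ A.P.left, s ≫ A.π.left = (yon S).map t
  downward_closed := by
    rintro T T' t ⟨s, hs⟩ g
    exact ⟨(yon S).map g ≫ s, by rw [Category.assoc, hs, Functor.map_comp]⟩

theorem secSieve_mem (A : SpQuotObj K G aX) : secSieve A ∈ QuotSh.J K S A.base := by
  rw [GrothendieckTopology.mem_over_iff]
  obtain ⟨R, hR, hsec⟩ := A.loc
  refine K.toGrothendieck.superset_covering ?_ (Precoverage.generate_mem_toGrothendieck hR)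
  rintro V g ⟨W, a, b, hb, rfl⟩
  obtain ⟨s, hs⟩ := hsec b hb
  rw [Sieve.overEquiv_iff]
  let a' : Over.mk ((a ≫ b) ≫ A.base.hom) ⟶ Over.mk (b ≫ A.base.hom) :=
    Over.homMk a (by simp)
  refine ⟨(yon S).map a' ≫ s, ?_⟩
  refine (Category.assoc _ _ _).trans ((congrArg (fun k => (yon S).map a' ≫ k) hs).trans ?_)
  refine ((yon S).map_comp _ _).symm.trans ?_
  congr 1

end Groth.Agent.H64.SpQ
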