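import Groth.Agent.H64.SpQ.Basic
import Groth.Agent.H64.Quot.FibGrpd

/-!
# The quotient category `[X/G]` with sheaf torsors is fibred in groupoids
-/

set_option autoImplicit false
universe u
open CategoryTheory CategoryTheory.Limits MonoidalCategory CartesianMonoidalCategory MonObj GrpObj
  AlgebraicGeometry Opposite

namespace Groth.Agent.H64.SpQ

open AlgSp AlgSt

variable {S : Scheme.{u}} {K : Precoverage Scheme.{u}} {B : AlgSp.Sp S} {G : Over B} [GrpObj G]
  {X : Over B} {aX : AlgSp.GAction G X}

section pull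

variable [K.IsStableUnderComposition] [K.IsStableUnderBaseChange] [K.HasPullbacks] [K.HasIsos]

/-- local triviality for the precoverage from local triviality for the topology -/
theorem loc_of_sieve_mem {T : Over S} {P : Sp S} (π : P ⟶ (yon S).obj T) (R : Sieve T)
    (hR : R ∈ QuotSh.J K S T)
    (h : ∀ ⦃T' : Over S⦄ (t : T' ⟶ T), R t → ∃ s : (yon S).obj T' ⟶ P, s ≫ π = (yon S).map t) :
    HasSecLoc K π := by
  rw [GrothendieckTopology.mem_over_iff,
    Precoverage.mem_toGrothendieck_iff_of_isStableUnderComposition] at hR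
  obtain ⟨R', hR', hle⟩ := hR
  refine ⟨R', hR', fun S' f hf => ?_⟩
  have := hle _ _ hf
  rw [Sieve.overEquiv_iff] at this
  exact h _ this

variable (A : SpQuotObj K G aX) {T : Over S} (f : T ⟶ A.base)

/-- the new base, over `B` -/
abbrev pb : Over B := yB T ((yon S).map f ≫ A.b)

/-- the map of bases, over `B` -/
abbrev pf : pb A f ⟶ bs A := rB f A.b

/-- the action on the pulled back torsor -/
noncomputable def pullAct : G ⊗ pullback (pf A f) A.π ⟶ pullback (pf A f) A.π :=
  pullback.lift (snd G _ ≫ pullback.fst (pf A f) A.π) ((G ◁ pullback.snd (pf A f) A.π) ≫ A.act.act)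
    (by
      rw [Category.assoc, Category.assoc, A.cart.w, whiskerLeft_snd_assoc, pullback.condition])

theorem pullAct_fst :
    pullAct A f ≫ pullback.fst (pf A f) A.π = snd G _ ≫ pullback.fst (pf A f) A.π :=
  pullback.lift_fst _ _ _

theorem pullAct_snd :
    pullAct A f ≫ pullback.snd (pf A f) A.π = (G ◁ pullback.snd (pf A f) A.π) ≫ A.act.act :=
  pullback.lift_snd _ _ _

theorem pullAct_pt_fst {W : Over B} (g : W ⟶ G) (p : W ⟶ pullback (pf A f) A.π) :
    lift g p ≫ pullAct A f ≫ pullback.fst (pf A f) A.π = p ≫ pullback.fst (pf A f) A.π := by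
  rw [pullAct_fst, lift_snd_assoc]

theorem pullAct_pt_snd {W : Over B} (g : W ⟶ G) (p : W ⟶ pullback (pf A f) A.π) :
    lift g p ≫ pullAct A f ≫ pullback.snd (pf A f) A.π =
      lift g (p ≫ pullback.snd (pf A f) A.π) ≫ A.act.act := by
  rw [pullAct_snd, ← Category.assoc]
  congr 1
  apply CartesianMonoidalCategory.hom_ext
  · simp only [Category.assoc, whiskerLeft_fst, lift_fst]
  · simp only [Category.assoc, whiskerLeft_snd, lift_snd, lift_snd_assoc]

/-- the pullback of an object of `[X/G]` along a morphism to its base -/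
noncomputable def pullObj : SpQuotObj K G aX where
  base := T
  b := (yon S).map f ≫ A.b
  P := pullback (pf A f) A.π
  act := actionOfPts (pullAct A f)
    (fun p => by
      apply pullback.hom_ext
      · rw [Category.assoc, pullAct_pt_fst]
      · rw [Category.assoc, pullAct_pt_snd, act_one_pt])
    (fun g h p => by
      apply pullback.hom_ext
      · rw [Category.assoc, pullAct_pt_fst, Category.assoc, pullAct_pt_fst, Category.assoc,
          pullAct_pt_fst]
      · rw [Category.assoc, pullAct_pt_snd, Category.assoc, pullAct_pt_snd, Category.assoc,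
          pullAct_pt_snd, act_mul_pt])
  π := pullback.fst (pf A f) A.π
  cart := by
    have h1 : IsPullback (pullback.snd (pf A f) A.π) (pullback.fst (pf A f) A.π) A.π (pf A f) :=
      (IsPullback.of_hasPullback (pf A f) A.π).flip
    have h2 : IsPullback (G ◁ pullback.snd (pf A f) A.π) (snd G _) (snd G A.P)
        (pullback.snd (pf A f) A.π) := isPullback_whiskerLeft' _
    have h3 := h2.paste_horiz A.cart
    refine IsPullback.of_right ?_ (pullAct_fst A f) h1
    have e : pullAct A f ≫ pullback.snd (pf A f) A.π =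
        (G ◁ pullback.snd (pf A f) A.π) ≫ A.act.act := pullAct_snd A f
    change IsPullback (pullAct A f ≫ pullback.snd (pf A f) A.π) _ _ _
    rw [e, pullback.condition]
    exact h3
  loc := by
    refine loc_of_sieve_mem (pullback.fst (pf A f) A.π).left ((secSieve A).pullback f)
      ((QuotSh.J K S).pullback_stable f (secSieve_mem A)) ?_
    rintro T' t ⟨s, hs⟩
    have hsB : s ≫ A.P.hom = (yon S).map t ≫ (yon S).map f ≫ A.b := by
      have h1 : A.π.left ≫ A.b = A.P.hom := Over.w A.π
      rw [← h1, ← Category.assoc, hs, Functor.map_comp, Category.assoc]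
    let s' : yB T' ((yon S).map t ≫ (yon S).map f ≫ A.b) ⟶ A.P := Over.homMk s hsB
    let t' : yB T' ((yon S).map t ≫ (yon S).map f ≫ A.b) ⟶ pb A f := rB t _
    have hc : t' ≫ pf A f = s' ≫ A.π := by
      apply Over.OverMorphism.ext
      change (yon S).map t ≫ (yon S).map f = s ≫ A.π.left
      rw [hs, Functor.map_comp]
    refine ⟨(pullback.lift t' s' hc).left, ?_⟩
    rw [← Over.comp_left, pullback.lift_fst]
    rfl
  φ := pullback.snd (pf A f) A.π ≫ A.φ
  eqv := by
    change pullAct A f ≫ pullback.snd (pf A f) A.π ≫ A.φ = _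
    rw [← Category.assoc, pullAct_snd, Category.assoc, A.eqv, MonoidalCategory.whiskerLeft_comp,
      Category.assoc]

/-- the projection from the pullback -/
noncomputable def pullHom : pullObj A f ⟶ A where
  base := f
  wb := rfl
  top := pullback.snd (pf A f) A.π
  eqv := pullAct_snd A f
  cart := (IsPullback.of_hasPullback (pf A f) A.π).flip
  wφ := rfl

@[simp] theorem pullHom_base : (pullHom A f).base = f := rfl
@[simp] theorem pullHom_top : (pullHom A f).top = pullback.snd (pf A f) A.π := rfl
@[simp] theorem pullObj_base : (pullObj A f).base = T := rfl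
@[simp] theorem pullObj_π : (pullObj A f).π = pullback.fst (pf A f) A.π := rfl
@[simp] theorem pullObj_P : (pullObj A f).P = pullback (pf A f) A.π := rfl

end pull

/-- the universal property of a morphism of `[X/G]` -/
theorem exists_lift_hom {A A' C : SpQuotObj K G aX} (m : A ⟶ A') (g : C.base ⟶ A.base)
    (ψ : C ⟶ A') (hb : ψ.base = g ≫ m.base) : ∃ χ : C ⟶ A, χ.base = g ∧ χ ≫ m = ψ := by
  have hgw : (yon S).map g ≫ A.b = C.b := by
    rw [← ψ.wb, hb, Functor.map_comp, Category.assoc, m.wb]
  let g' : bs C ⟶ bs A := bHom g hgw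
  have hg' : hbs ψ = g' ≫ hbs m := by
    apply Over.OverMorphism.ext
    change (yon S).map ψ.base = (yon S).map g ≫ (yon S).map m.base
    rw [hb, Functor.map_comp]
  have hw : ψ.top ≫ A'.π = (C.π ≫ g') ≫ hbs m := by
    rw [(hom_cart ψ).w, hg', Category.assoc]
  let τ : C.P ⟶ A.P := m.cart.lift ψ.top (C.π ≫ g') hw
  have hτ1 : τ ≫ m.top = ψ.top := m.cart.lift_fst _ _ _
  have hτ2 : τ ≫ A.π = C.π ≫ g' := m.cart.lift_snd _ _ _
  let χ : C ⟶ A :=
    { base := g
      wb := hgw
      top := τ
      eqv := by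
        apply m.cart.hom_ext
        · rw [Category.assoc, hτ1, Category.assoc, m.eqv, ← MonoidalCategory.whiskerLeft_comp_assoc,
            hτ1, ψ.eqv]
        · rw [Category.assoc, hτ2, Category.assoc, A.cart.w, whiskerLeft_snd_assoc, hτ2,
            ← Category.assoc, C.cart.w, Category.assoc]
      cart := by
        refine IsPullback.of_right ?_ hτ2 (hom_cart m)
        rw [hτ1, ← hg']
        exact hom_cart ψ
      wφ := by rw [← m.wφ, ← Category.assoc, hτ1, ψ.wφ] }
  exact ⟨χ, rfl, SpQuotObj.hom_ext hb.symm hτ1⟩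

theorem base_eq_of_isHomLift {A A' : SpQuotObj K G aX} (m : A ⟶ A') (f : A.base ⟶ A'.base)
    (h : (SpQuotSt K G aX).p.IsHomLift f m) : m.base = f :=
  Groth.Agent.H64.Quot.map_eq_of_isHomLift (SpQuotSt K G aX).p f m h

theorem isHomLift_base {A A' : SpQuotObj K G aX} (m : A ⟶ A') :
    (SpQuotSt K G aX).p.IsHomLift m.base m :=
  inferInstanceAs ((SpQuotSt K G aX).p.IsHomLift ((SpQuotSt K G aX).p.map m) m)

theorem isHomLift_of_base_eq {A A' : SpQuotObj K G aX} (m : A ⟶ A') (f : A.base ⟶ A'.base)
    (h : m.base = f) : (SpQuotSt K G aX).p.IsHomLift f m := by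
  subst h
  exact isHomLift_base m

/-- every morphism of `[X/G]` is strongly cartesian -/
theorem isStronglyCartesian_hom {A A' : SpQuotObj K G aX} (m : A ⟶ A') :
    (SpQuotSt K G aX).p.IsStronglyCartesian m.base m := by
  refine { toIsHomLift := isHomLift_base m, universal_property' := ?_ }
  intro C g ψ hψ
  change C.base ⟶ A.base at g
  have hb : ψ.base = g ≫ m.base := base_eq_of_isHomLift ψ (g ≫ m.base) hψ
  obtain ⟨χ, hχ1, hχ2⟩ := exists_lift_hom m g ψ hb
  refine ⟨χ, ⟨isHomLift_of_base_eq χ g hχ1, hχ2⟩, ?_⟩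
  rintro χ' ⟨h1, h2⟩
  have hb' : χ'.base = g := base_eq_of_isHomLift χ' g h1
  apply hom_ext_of_comp m (hb'.trans hχ1.symm)
  rw [h2, hχ2]

/-- `[X/G]` is fibred in groupoids -/
theorem isFibGrpd_spQuotSt [K.IsStableUnderComposition] [K.IsStableUnderBaseChange]
    [K.HasPullbacks] [K.HasIsos] : FibCat.IsFibGrpd (SpQuotSt K G aX).p where
  exists_lift {A _} f := ⟨pullObj A f, pullHom A f, isHomLift_base (pullHom A f)⟩
  isStronglyCartesian m := isStronglyCartesian_hom m

end Groth.Agent.H64.SpQ
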