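import Groth.Agent.H64.SpQ.Triv
import Groth.Agent.H64.SpQ.FibGrpd
import Groth.Agent.H64.Stk.FpStack
import Groth.Agent.H64.Stk.Lift

/-!
# The fibre product of a scheme `U ⟶ [X/G]` with `X ⟶ [X/G]` (sheaf torsors), I

The universal object, the trivialisation attached to a section of the universal torsor.
-/

set_option autoImplicit false
set_option linter.unusedSimpArgs false
universe u
open CategoryTheory CategoryTheory.Limits MonoidalCategory CartesianMonoidalCategory MonObj GrpObj
  AlgebraicGeometry Opposite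

namespace Groth.Agent.H64.SpQ

open AlgSp AlgSt

variable {S : Scheme.{u}} {K : Precoverage Scheme.{u}} [K.HasIsos] {B : AlgSp.Sp S} {G : Over B}
  [GrpObj G] {X : Over B} {aX : AlgSp.GAction G X}

/-- a morphism of `[X/G]` over an isomorphism is an isomorphism -/
theorem isIso_of_isIso_base {A A' : SpQuotObj K G aX} (h : A ⟶ A') [IsIso h.base] : IsIso h := by
  obtain ⟨χ, hχ1, hχ2⟩ := exists_lift_hom h (inv h.base) (𝟙 A')
    (by rw [IsIso.inv_hom_id]; rfl)
  refine ⟨⟨χ, ?_, hχ2⟩⟩
  apply hom_ext_of_comp h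
  · change h.base ≫ χ.base = 𝟙 _
    rw [hχ1, IsIso.hom_inv_id]
  · rw [Category.assoc, hχ2, Category.comp_id, Category.id_comp]

variable {U : Over S} (y : FibCat.overCat U ⥤ᵇ SpQuotSt K G aX)

/-- identification of the base of `y t` with the source of `t` -/
def yb (t : Over U) : t.left ⟶ (y.obj t).base := eqToHom (y.w_obj t).symm

instance (t : Over U) : IsIso (yb y t) :=
  ⟨⟨eqToHom (y.w_obj t), (eqToHom_trans _ _).trans (eqToHom_refl _ rfl),
    (eqToHom_trans _ _).trans (eqToHom_refl _ rfl)⟩⟩

theorem eqToHom_aux {C : Type*} [Category C] {a a' b b' : C} (ha : a' = a) (hb : b' = b)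
    (f : a ⟶ b) :
    eqToHom ha.symm ≫ (eqToHom ha ≫ f ≫ eqToHom hb.symm) = f ≫ eqToHom hb.symm := by
  subst ha; subst hb; simp

theorem yb_nat {t' t : Over U} (m : t' ⟶ t) : yb y t' ≫ (y.map m).base = m.left ≫ yb y t := by
  have h := Functor.congr_hom y.w m
  have h' : (y.map m).base = eqToHom (y.w_obj t') ≫ m.left ≫ eqToHom (y.w_obj t).symm := h
  rw [h']
  exact eqToHom_aux (y.w_obj t') (y.w_obj t) m.left

/-- the universal object: the value of `y` at the identity of `U` -/
abbrev univ : SpQuotObj K G aX := y.obj (Over.mk (𝟙 U))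

/-- identification of the base of the universal object with `U` -/
abbrev ub : U ⟶ (univ y).base := yb y (Over.mk (𝟙 U))

/-- the structure map to the universal object -/
def toUniv (t : Over U) : y.obj t ⟶ univ y := y.map (Over.homMk t.hom : t ⟶ Over.mk (𝟙 U))

theorem yb_toUniv_base (t : Over U) : yb y t ≫ (toUniv y t).base = t.hom ≫ ub y :=
  yb_nat y (Over.homMk t.hom : t ⟶ Over.mk (𝟙 U))

theorem map_toUniv {t' t : Over U} (m : t' ⟶ t) : y.map m ≫ toUniv y t = toUniv y t' := by
  refine (y.toFunctor.map_comp m (Over.homMk t.hom : t ⟶ Over.mk (𝟙 U))).symm.trans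
    (congrArg y.toFunctor.map ?_)
  apply Over.OverMorphism.ext
  change m.left ≫ t.hom = t'.hom
  exact Over.w m

/-- the section of `X` attached to a section of the universal torsor -/
noncomputable abbrev bSec (σ : (ofSp (univ y).P.left).obj) : (ofSp X.left).obj :=
  (ofSpMap (univ y).φ.left).obj σ

theorem secYon_bSec (σ : (ofSp (univ y).P.left).obj) :
    secYon (X := X) (bSec y σ) = secYon (X := (univ y).P) σ ≫ (univ y).φ.left :=
  (GrothendieckTopology.uliftYonedaEquiv_symm_naturality_right (AlgSp.J S) σ.base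
    (univ y).φ.left σ.sec).symm

/-- the point of the universal torsor attached to a section, over `B` -/
noncomputable def sPt (σ : (ofSp (univ y).P.left).obj) : tB (bSec y σ) ⟶ (univ y).P :=
  Over.homMk (secYon (X := (univ y).P) σ) (by
    change secYon (X := (univ y).P) σ ≫ (univ y).P.hom = secYon (X := X) (bSec y σ) ≫ X.hom
    have h : secYon (X := (univ y).P) σ ≫ ((univ y).φ.left ≫ X.hom) =
        secYon (X := X) (bSec y σ) ≫ X.hom :=
      (Category.assoc _ _ _).symm.trans (congrArg (· ≫ X.hom) (secYon_bSec y σ).symm)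
    rw [← h, Over.w])

@[simp] theorem sPt_left (σ : (ofSp (univ y).P.left).obj) :
    (sPt y σ).left = secYon (X := (univ y).P) σ := rfl

theorem sPt_φ (σ : (ofSp (univ y).P.left).obj) :
    sPt y σ ≫ (univ y).φ = secOver (bSec y σ) := by
  apply Over.OverMorphism.ext
  exact (secYon_bSec y σ).symm

/-- the structure morphism to the base of the universal torsor of a section -/
noncomputable def sBase (σ : (ofSp (univ y).P.left).obj) : σ.base ⟶ (univ y).base :=
  unYon (sPt y σ ≫ (univ y).π).left

theorem map_sBase (σ : (ofSp (univ y).P.left).obj) :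
    (yon S).map (sBase y σ) = secYon (X := (univ y).P) σ ≫ (univ y).π.left :=
  map_unYon _

/-- the object of `(Sch/U)` attached to a section of the universal torsor -/
noncomputable def aOb (σ : (ofSp (univ y).P.left).obj) : Over U :=
  Over.mk (sBase y σ ≫ inv (ub y))

@[simp] theorem aOb_left (σ : (ofSp (univ y).P.left).obj) : (aOb y σ).left = σ.base := rfl

theorem aOb_hom (σ : (ofSp (univ y).P.left).obj) : (aOb y σ).hom = sBase y σ ≫ inv (ub y) := rfl

theorem aOb_hom_ub (σ : (ofSp (univ y).P.left).obj) : (aOb y σ).hom ≫ ub y = sBase y σ :=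
  (Category.assoc _ _ _).trans
    ((congrArg (sBase y σ ≫ ·) (IsIso.inv_hom_id (ub y))).trans (Category.comp_id _))

/-- the morphism from the trivial torsor to the universal one defined by a section -/
noncomputable abbrev ofS (σ : (ofSp (univ y).P.left).obj) : triv K aX (bSec y σ) ⟶ univ y :=
  ofSec (univ y) (bSec y σ) (sPt y σ) (sPt_φ y σ)

theorem exists_nu (σ : (ofSp (univ y).P.left).obj) :
    ∃ ν : triv K aX (bSec y σ) ⟶ y.obj (aOb y σ), ν.base = yb y (aOb y σ) ∧
      ν ≫ toUniv y (aOb y σ) = ofS y σ := by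
  have hb : (ofS y σ).base = yb y (aOb y σ) ≫ (toUniv y (aOb y σ)).base :=
    ((yb_toUniv_base y (aOb y σ)).trans (aOb_hom_ub y σ)).symm
  exact exists_lift_hom (toUniv y (aOb y σ)) (yb y (aOb y σ)) (ofS y σ) hb

/-- the trivialisation of `y` at the object attached to a section -/
noncomputable def nu (σ : (ofSp (univ y).P.left).obj) :
    triv K aX (bSec y σ) ⟶ y.obj (aOb y σ) := (exists_nu y σ).choose

theorem nu_base (σ : (ofSp (univ y).P.left).obj) : (nu y σ).base = yb y (aOb y σ) :=
  (exists_nu y σ).choose_spec.1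

theorem nu_comp (σ : (ofSp (univ y).P.left).obj) : nu y σ ≫ toUniv y (aOb y σ) = ofS y σ :=
  (exists_nu y σ).choose_spec.2

instance (σ : (ofSp (univ y).P.left).obj) : IsIso (nu y σ) := by
  have h0 : IsIso (yb y (aOb y σ)) := inferInstance
  have : IsIso (nu y σ).base := by
    rw [nu_base]
    exact h0
  exact isIso_of_isIso_base _

end Groth.Agent.H64.SpQ
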