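import Groth.Agent.H64.SpQ.FpRep
import Groth.Agent.H64.Quot.FpRep3

/-!
# The fibre product of a scheme `U ⟶ [X/G]` with `X ⟶ [X/G]` (sheaf torsors), II

The functor from the total space of the universal torsor to the fibre product.
-/

set_option autoImplicit false
set_option linter.unusedSimpArgs false
universe u
open CategoryTheory CategoryTheory.Limits MonoidalCategory CartesianMonoidalCategory MonObj GrpObj
  AlgebraicGeometry Opposite

namespace Groth.Agent.H64.SpQ

open AlgSp AlgSt

variable {S : Scheme.{u}} {K : Precoverage Scheme.{u}} [K.HasIsos] {B : AlgSp.Sp S} {G : Over B}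
  [GrpObj G] {X : Over B} {aX : AlgSp.GAction G X}
  {U : Over S} (y : FibCat.overCat U ⥤ᵇ SpQuotSt K G aX)

theorem sBase_comp {σ' σ : (ofSp (univ y).P.left).obj} (r : σ' ⟶ σ) :
    r.hom ≫ sBase y σ = sBase y σ' := by
  apply (yon S).map_injective
  rw [Functor.map_comp, map_sBase, map_sBase, ← Category.assoc, secYon_comp]

/-- the morphism of `(Sch/U)` attached to a morphism of sections -/
noncomputable def aMap {σ' σ : (ofSp (univ y).P.left).obj} (r : σ' ⟶ σ) : aOb y σ' ⟶ aOb y σ :=
  Over.homMk r.hom (by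
    change r.hom ≫ (sBase y σ ≫ inv (ub y)) = sBase y σ' ≫ inv (ub y)
    rw [← Category.assoc, sBase_comp])

@[simp] theorem aMap_left {σ' σ : (ofSp (univ y).P.left).obj} (r : σ' ⟶ σ) :
    (aMap y r).left = r.hom := rfl

theorem nu_nat {σ' σ : (ofSp (univ y).P.left).obj} (r : σ' ⟶ σ)
    (ρ : aOb y σ' ⟶ aOb y σ) (hρ : ρ.left = r.hom) (m : bSec y σ' ⟶ bSec y σ)
    (hm : m.hom = r.hom) :
    nu y σ' ≫ y.map ρ = (spQuotMap K G aX).map m ≫ nu y σ := by
  apply hom_ext_of_comp (toUniv y (aOb y σ))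
  · have h1 : (nu y σ' ≫ y.map ρ).base = yb y (aOb y σ') ≫ (y.map ρ).base :=
      congrArg (· ≫ (y.map ρ).base) (nu_base y σ')
    have h2 : ((spQuotMap K G aX).map m ≫ nu y σ).base = m.hom ≫ yb y (aOb y σ) :=
      congrArg (m.hom ≫ ·) (nu_base y σ)
    rw [h1, h2, yb_nat, hρ, hm]
    rfl
  · have h1 : (nu y σ' ≫ y.map ρ) ≫ toUniv y (aOb y σ) = ofS y σ' :=
      (Category.assoc _ _ _).trans
        ((congrArg (nu y σ' ≫ ·) (map_toUniv y ρ)).trans (nu_comp y σ'))
    have h2 : ((spQuotMap K G aX).map m ≫ nu y σ) ≫ toUniv y (aOb y σ) = ofS y σ' :=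
      (Category.assoc _ _ _).trans
        ((congrArg ((spQuotMap K G aX).map m ≫ ·) (nu_comp y σ)).trans
          (map_ofSec (univ y) m (sPt y σ) (sPt_φ y σ) (sPt y σ') (by
            change secYon (X := (univ y).P) σ' = (yon S).map m.hom ≫ secYon (X := (univ y).P) σ
            rw [hm]
            exact (secYon_comp (X := (univ y).P) r).symm) (sPt_φ y σ')))
    exact h1.trans h2.symm

theorem nu_isHomLift (σ : (ofSp (univ y).P.left).obj) :
    (SpQuotSt K G aX).p.IsHomLift (𝟙 σ.base) (nu y σ) :=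
  Quot.isHomLift_id_of_eq (SpQuotSt K G aX).p (nu y σ) rfl (y.w_obj (aOb y σ)) (nu_base y σ)

/-- the trivialisation as an isomorphism -/
noncomputable def nuIso (σ : (ofSp (univ y).P.left).obj) :
    y.obj (aOb y σ) ≅ triv K aX (bSec y σ) :=
  (asIso (nu y σ)).symm

theorem nuIso_hom (σ : (ofSp (univ y).P.left).obj) : (nuIso y σ).hom = inv (nu y σ) := rfl

theorem nuIso_inv (σ : (ofSp (univ y).P.left).obj) : (nuIso y σ).inv = nu y σ := rfl

theorem nuIso_isHomLift (σ : (ofSp (univ y).P.left).obj) :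
    (SpQuotSt K G aX).p.IsHomLift (𝟙 σ.base) (nuIso y σ).hom :=
  Groth.Agent.H64.lift_inv_of_isIso (SpQuotSt K G aX).p (nu y σ) (nu_isHomLift y σ)

theorem repFun_w {σ' σ : (ofSp (univ y).P.left).obj} (r : σ' ⟶ σ)
    (ρ : aOb y σ' ⟶ aOb y σ) (hρ : ρ.left = r.hom) (m : bSec y σ' ⟶ bSec y σ)
    (hm : m.hom = r.hom) :
    y.map ρ ≫ (nuIso y σ).hom = (nuIso y σ').hom ≫ (spQuotMap K G aX).map m :=
  Quot.inv_comm _ _ _ _ (nu_nat y r ρ hρ m hm)

/-- the object of the fibre product attached to a section of the universal torsor -/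
noncomputable def repObj (σ : (ofSp (univ y).P.left).obj) :
    (FibCat.fp y (spQuotMap K G aX)).obj :=
  ⟨⟨aOb y σ, bSec y σ, nuIso y σ⟩, nuIso_isHomLift y σ⟩

/-- the morphism of the fibre product attached to a morphism of sections -/
noncomputable def repMap {σ' σ : (ofSp (univ y).P.left).obj} (r : σ' ⟶ σ) :
    repObj y σ' ⟶ repObj y σ :=
  fpHomMk y (spQuotMap K G aX) (z := repObj y σ') (z' := repObj y σ)
    (aMap y r) ((ofSpMap (univ y).φ.left).map r)
    (repFun_w y r _ rfl _ rfl)

/-- the functor from the total space of the universal torsor to the fibre product -/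
noncomputable def repFun : ofSp (univ y).P.left ⥤ᵇ FibCat.fp y (spQuotMap K G aX) where
  toFunctor :=
    { obj := repObj y
      map := fun r => repMap y r
      map_id := fun σ => by
        apply fp_hom_ext
        · apply Over.OverMorphism.ext; rfl
        · apply Stk.EltObj.hom_ext; rfl
      map_comp := fun r r' => by
        apply fp_hom_ext
        · apply Over.OverMorphism.ext; rfl
        · apply Stk.EltObj.hom_ext; rfl }
  w := rfl

end Groth.Agent.H64.SpQ
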