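import Groth.Agent.H64.SpQ.FpRep2

/-!
# The fibre product of a scheme `U ⟶ [X/G]` with `X ⟶ [X/G]` (sheaf torsors), III

The functor from the total space of the universal torsor to the fibre product is an equivalence.
-/

set_option autoImplicit false
set_option linter.unusedSimpArgs false
universe u
open CategoryTheory CategoryTheory.Limits MonoidalCategory CartesianMonoidalCategory MonObj GrpObj
  AlgebraicGeometry Opposite

namespace Groth.Agent.H64.SpQ

open AlgSp AlgSt

variable {S : Scheme.{u}} {K : Precoverage Scheme.{u}} [K.HasIsos] {B : AlgSp.Sp S} {G : Over B}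
  [GrpObj G] {X : Over B} {aX : AlgSp.GAction G X}

/-- the image of the unit section under the functor `X ⟶ [X/G]` followed by the morphism defined
by a section -/
theorem unitSec_map_ofSec (A : SpQuotObj K G aX) {a' a : (ofSp X.left).obj} (m : a' ⟶ a)
    (sB : tB a ⟶ A.P) (h : sB ≫ A.φ = secOver a) :
    (unitSec G (tB a') ≫ topT ((spQuotMap K G aX).map m ≫ ofSec A a sB h)).left =
      (yon S).map m.hom ≫ sB.left := by
  have hw : (yon S).map m.hom ≫ secYon a ≫ X.hom = secYon a' ≫ X.hom := by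
    rw [← Category.assoc, secYon_comp]
  have e1 : topT ((spQuotMap K G aX).map m ≫ ofSec A a sB h) =
      (G ◁ bHom m.hom hw) ≫ (G ◁ sB) ≫ A.act.act := rfl
  rw [e1, ← MonoidalCategory.whiskerLeft_comp_assoc, unitSec_act]
  rfl

variable {U : Over S} (y : FibCat.overCat U ⥤ᵇ SpQuotSt K G aX)

theorem repFun_faithful : (repFun y).toFunctor.Faithful := by
  refine ⟨fun {σ' σ} r r' h => ?_⟩
  apply Stk.EltObj.hom_ext
  exact congrArg (fun t => t.hom.snd.hom) h

/-- sections are determined by the points they define -/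
theorem sec_eq_of_secYon {F : Over B} {T : Over S} (s s' : F.left.obj.obj (op T))
    (h : secYon (X := F) ⟨T, s⟩ = secYon (X := F) ⟨T, s'⟩) : s = s' :=
  ((AlgSp.J S).uliftYonedaEquiv).symm.injective h

/-- compatibility of a morphism of the fibre product between objects attached to sections -/
theorem sec_eq_of_hom (σ σ' : (ofSp (univ y).P.left).obj)
    (n₁ : aOb y σ' ⟶ aOb y σ) (n₂ : bSec y σ' ⟶ bSec y σ)
    (hw : y.map n₁ ≫ (nuIso y σ).hom = (nuIso y σ').hom ≫ (spQuotMap K G aX).map n₂) :
    (univ y).P.left.obj.map n₂.hom.op σ.sec = σ'.sec := by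
  have h1 : nu y σ' ≫ y.map n₁ = (spQuotMap K G aX).map n₂ ≫ nu y σ :=
    Quot.iso_comm' (nuIso y σ').symm (nuIso y σ).symm _ _ hw
  have h2 : ofS y σ' = (spQuotMap K G aX).map n₂ ≫ ofS y σ := by
    have h3 := congrArg (· ≫ toUniv y (aOb y σ)) h1
    simp only [Category.assoc] at h3
    rw [map_toUniv, nu_comp, nu_comp] at h3
    exact h3
  have h4 : (unitSec G (tB (bSec y σ')) ≫ topT (ofS y σ')).left =
      (unitSec G (tB (bSec y σ')) ≫ topT ((spQuotMap K G aX).map n₂ ≫ ofS y σ)).left := by
    rw [h2]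
  rw [unitSec_ofSec_top, unitSec_map_ofSec] at h4
  -- h4 : secYon σ' = yon.map n₂.hom ≫ secYon σ
  have h5 : secYon (X := (univ y).P) σ' =
      secYon (X := (univ y).P) ⟨σ'.base, (univ y).P.left.obj.map n₂.hom.op σ.sec⟩ := by
    refine h4.trans ?_
    exact GrothendieckTopology.uliftYonedaEquiv_symm_naturality_left (AlgSp.J S) n₂.hom
      (univ y).P.left σ.sec
  exact (sec_eq_of_secYon (F := (univ y).P) _ _ h5).symm

theorem repFun_full : (repFun y).toFunctor.Full := by
  refine ⟨fun {σ' σ} n => ?_⟩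
  have hw : y.map n.hom.fst ≫ (nuIso y σ).hom =
      (nuIso y σ').hom ≫ (spQuotMap K G aX).map n.hom.snd := n.hom.w
  have hr := sec_eq_of_hom y σ σ' n.hom.fst n.hom.snd hw
  have hl : n.hom.fst.left = n.hom.snd.hom := by
    have := FibCat.fp_isHomLift_snd y (spQuotMap K G aX) n
    exact @IsHomLift.eq_of_isHomLift _ _ _ _ (Stk.EltObj.forget X.left.obj)
      (repObj y σ').obj.snd (repObj y σ).obj.snd n.hom.fst.left n.hom.snd this
  refine ⟨⟨n.hom.snd.hom, hr⟩, ?_⟩
  apply fp_hom_ext
  · apply Over.OverMorphism.ext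
    exact hl.symm
  · apply Stk.EltObj.hom_ext
    rfl

end Groth.Agent.H64.SpQ
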