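import Groth.Agent.H64.SpQ.FpRep3

/-!
# The fibre product of a scheme `U ⟶ [X/G]` with `X ⟶ [X/G]` (sheaf torsors), IV

Essential surjectivity; the equivalence.
-/

set_option autoImplicit false
set_option linter.unusedSimpArgs false
universe u
open CategoryTheory CategoryTheory.Limits MonoidalCategory CartesianMonoidalCategory MonObj GrpObj
  AlgebraicGeometry Opposite

namespace Groth.Agent.H64.SpQ

open AlgSp AlgSt

variable {S : Scheme.{u}} {K : Precoverage Scheme.{u}} [K.HasIsos] {B : AlgSp.Sp S} {G : Over B}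
  [GrpObj G] {X : Over B} {aX : AlgSp.GAction G X}

theorem base_eq_eqToHom_of_isHomLift {A A' : SpQuotObj K G aX} (h : A ⟶ A') {T : Over S}
    (hl : (SpQuotSt K G aX).p.IsHomLift (𝟙 T) h) (hA : A.base = T) (hB : A'.base = T) :
    h.base = eqToHom (hA.trans hB.symm) := by
  have h1 := IsHomLift.fac' (SpQuotSt K G aX).p (𝟙 T) h
  have h2 : h.base = eqToHom hA ≫ 𝟙 T ≫ eqToHom hB.symm := h1
  rw [h2, Category.id_comp, eqToHom_trans]

variable {U : Over S} (y : FibCat.overCat U ⥤ᵇ SpQuotSt K G aX)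

theorem repFun_essSurj (z : (FibCat.fp y (spQuotMap K G aX)).obj) :
    ∃ (σ : (ofSp (univ y).P.left).obj) (e : (repFun y).obj σ ≅ z),
      (FibCat.fp y (spQuotMap K G aX)).p.IsHomLift
        (𝟙 ((FibCat.fp y (spQuotMap K G aX)).p.obj z)) e.hom := by
  obtain ⟨⟨t, ⟨T', x⟩, i⟩, hz⟩ := z
  have hz' : (SpQuotSt K G aX).p.IsHomLift (𝟙 t.left) i.hom := hz
  have hT : T' = t.left := IsHomLift.codomain_eq (SpQuotSt K G aX).p (𝟙 t.left) i.hom
  subst hT
  have hinv : (SpQuotSt K G aX).p.IsHomLift (𝟙 t.left) i.inv :=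
    Groth.Agent.H64.lift_inv_of_iso (SpQuotSt K G aX).p i hz'
  have hlam : i.inv.base = yb y t :=
    base_eq_eqToHom_of_isHomLift i.inv hinv rfl (y.w_obj t)
  -- the composite to the universal object and the section it defines
  let a : (ofSp X.left).obj := ⟨t.left, x⟩
  let lam' : triv K aX a ⟶ univ y := i.inv ≫ toUniv y t
  let s : tB a ⟶ (univ y).P := unitSec G (tB a) ≫ topT lam'
  let σ : (ofSp (univ y).P.left).obj := ⟨t.left, (AlgSp.J S).uliftYonedaEquiv s.left⟩
  have hσ : secYon (X := (univ y).P) σ = s.left := Equiv.symm_apply_apply _ _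
  have hsφ : s ≫ (univ y).φ = secOver a := φ_eq_of_triv lam'
  have hx : (bSec y σ).sec = x := by
    have h1 : (bSec y σ).sec = (AlgSp.J S).uliftYonedaEquiv (s.left ≫ (univ y).φ.left) :=
      (GrothendieckTopology.uliftYonedaEquiv_comp (AlgSp.J S) s.left (univ y).φ.left).symm
    have h2 : s.left ≫ (univ y).φ.left = secYon a := congrArg (fun k => k.left) hsφ
    rw [h1, h2]
    exact Equiv.apply_symm_apply _ _
  have hsπ : lam'.base = sBase y σ := by
    rw [base_eq_of_triv lam']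
    have h1 : ((unitSec G (tB a) ≫ topT lam') ≫ (univ y).π).left = s.left ≫ (univ y).π.left := rfl
    have h2 : (sPt y σ ≫ (univ y).π).left = s.left ≫ (univ y).π.left :=
      congrArg (· ≫ (univ y).π.left) hσ
    unfold sBase
    rw [h1, h2]
  have hb' : lam'.base = t.hom ≫ ub y :=
    (congrArg (· ≫ (toUniv y t).base) hlam).trans (yb_toUniv_base y t)
  have hth : (aOb y σ).hom = t.hom := by
    change sBase y σ ≫ inv (ub y) = t.hom
    rw [← hsπ, hb', Category.assoc, IsIso.hom_inv_id, Category.comp_id]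
  let ι₁ : aOb y σ ≅ t := Over.isoMk (Iso.refl t.left) (by
    change 𝟙 t.left ≫ t.hom = (aOb y σ).hom
    rw [Category.id_comp, hth])
  let ι₂ : bSec y σ ≅ a := Quot.eltIso (P := X.left.obj) t.left (bSec y σ).sec x hx
  have hkey : nu y σ ≫ y.map ι₁.hom = (spQuotMap K G aX).map ι₂.hom ≫ i.inv := by
    apply hom_ext_of_comp (toUniv y t)
    · have h1 : (nu y σ ≫ y.map ι₁.hom).base = yb y (aOb y σ) ≫ (y.map ι₁.hom).base :=
        congrArg (· ≫ (y.map ι₁.hom).base) (nu_base y σ)
      have h2 : ((spQuotMap K G aX).map ι₂.hom ≫ i.inv).base = 𝟙 t.left ≫ yb y t :=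
        congrArg (𝟙 t.left ≫ ·) hlam
      rw [h1, h2, yb_nat]
      rfl
    · have h1 : (nu y σ ≫ y.map ι₁.hom) ≫ toUniv y t = ofS y σ :=
        (Category.assoc _ _ _).trans
          ((congrArg (nu y σ ≫ ·) (map_toUniv y ι₁.hom)).trans (nu_comp y σ))
      have h2 : ((spQuotMap K G aX).map ι₂.hom ≫ i.inv) ≫ toUniv y t =
          (spQuotMap K G aX).map ι₂.hom ≫ lam' := Category.assoc _ _ _
      have h3 : (spQuotMap K G aX).map ι₂.hom ≫ lam' = ofS y σ :=
        (congrArg ((spQuotMap K G aX).map ι₂.hom ≫ ·) (eq_ofSec lam')).trans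
          (map_ofSec (univ y) ι₂.hom s hsφ (sPt y σ) (by
            change secYon (X := (univ y).P) σ = (yon S).map (𝟙 t.left) ≫ s.left
            rw [CategoryTheory.Functor.map_id, Category.id_comp, hσ]) (sPt_φ y σ))
      exact h1.trans (h3.symm.trans h2.symm)
  have hcompat : y.map ι₁.hom ≫ i.hom = (nuIso y σ).hom ≫ (spQuotMap K G aX).map ι₂.hom :=
    Quot.iso_comm (nuIso y σ).symm i.symm _ _ hkey
  let e := fpIsoMk y (spQuotMap K G aX) (z := (repFun y).obj σ)
    (z' := ⟨⟨t, a, i⟩, hz⟩) ι₁ ι₂ hcompat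
  refine ⟨σ, e, ?_⟩
  have : (FibCat.overCat U).p.IsHomLift (𝟙 t.left) e.hom.hom.fst :=
    IsHomLift.map (Over.forget U) ι₁.hom
  exact Groth.Agent.H32.fp_isHomLift_of_fst y (spQuotMap K G aX) e.hom (𝟙 t.left)

/-- the fibre product of `U ⟶ [X/G]` with `X ⟶ [X/G]` is the total space of the torsor -/
theorem isEquivOver_repFun : FibCat.IsEquivOver (repFun y) := by
  have := repFun_full y
  have := repFun_faithful y
  exact isEquivOver_of_fullyFaithful_of_fiberwise_essSurj _ (fun z => repFun_essSurj y z)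

end Groth.Agent.H64.SpQ
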