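import Groth.Agent.H64.SpQ.FpRep4

/-!
# The fibre product of a scheme `U ⟶ [X/G]` with `X ⟶ [X/G]` (sheaf torsors), V

The first projection of the fibre product is the structure morphism of the universal torsor.
-/

set_option autoImplicit false
set_option linter.unusedSimpArgs false
universe u
open CategoryTheory CategoryTheory.Limits MonoidalCategory CartesianMonoidalCategory MonObj GrpObj
  AlgebraicGeometry Opposite

namespace Groth.Agent.H64.SpQ

open AlgSp AlgSt

variable {S : Scheme.{u}} {K : Precoverage Scheme.{u}} [K.HasIsos] {B : AlgSp.Sp S} {G : Over B}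
  [GrpObj G] {X : Over B} {aX : AlgSp.GAction G X}
  {U : Over S} (y : FibCat.overCat U ⥤ᵇ SpQuotSt K G aX)

theorem yon_map_eq_symm {T V : Over S} (f : T ⟶ V) :
    (yon S).map f = (GrothendieckTopology.uliftYonedaEquiv.{u + 1} (AlgSp.J S) (X := T)
      (F := (yon S).obj V)).symm (⟨f⟩ : ULift.{u + 1} (T ⟶ V)) := by
  rw [Equiv.eq_symm_apply]
  exact GrothendieckTopology.uliftYonedaEquiv_uliftYoneda_map (AlgSp.J S) f

theorem sBase_eq (σ : (ofSp (univ y).P.left).obj) :
    (univ y).π.left.hom.app (op σ.base) σ.sec =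
      (⟨sBase y σ⟩ : ULift.{u + 1} (σ.base ⟶ (univ y).base)) := by
  apply (GrothendieckTopology.uliftYonedaEquiv.{u + 1} (AlgSp.J S) (X := σ.base)
    (F := (yon S).obj (univ y).base)).symm.injective
  rw [← yon_map_eq_symm, map_sBase]
  exact (GrothendieckTopology.uliftYonedaEquiv_symm_naturality_right (AlgSp.J S) σ.base
    (univ y).π.left σ.sec).symm

theorem spMapOfOver_repFun :
    spMapOfOver (F := (univ y).P.left)
      (BasedFunctor.comp (repFun y) (FibCat.fpFst y (spQuotMap K G aX))) =
      (univ y).π.left ≫ (yon S).map (inv (ub y)) := by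
  apply ObjectProperty.hom_ext
  ext T s
  obtain ⟨T⟩ := T
  apply ULift.ext
  show secHom _ _ = _
  simp only [secHom]
  refine (Category.id_comp _).trans ?_
  change sBase y ⟨T, s⟩ ≫ inv (ub y) =
    ((univ y).π.left.hom.app (op T) s).down ≫ inv (ub y)
  rw [sBase_eq y ⟨T, s⟩]

end Groth.Agent.H64.SpQ
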