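import Groth.Agent.H64.SpQ.GluePts

set_option autoImplicit false
universe u
open CategoryTheory CategoryTheory.Limits MonoidalCategory CartesianMonoidalCategory MonObj GrpObj
  AlgebraicGeometry Opposite

/-! Points of the glued torsor: the glued section of the base sheaf, the action of `G`, the
equivariant map to `X`. -/

namespace Groth.Agent.H64.SpQ

open AlgSp AlgSt Groth.Agent.H64.Quot

variable {S : Scheme.{u}} {B : AlgSp.Sp S} {G : Over B} [GrpObj G] {X : Over B}
  {aX : AlgSp.GAction G X} {U : Over S} {R : Sieve U}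
  {D : Stk.sieveCat R ⥤ᵇ SpQuotSt Scheme.fppfPrecoverage G aX}

section base

variable (hR : R ∈ J S U)

include hR in
theorem exists_bU : ∃ b : (yon S).obj U ⟶ B, ∀ ⦃V : Over S⦄ (f : V ⟶ U) (hf : R f),
    (yon S).map f ≫ b = dβ R D f hf :=
  exists_glue_yon (F := B) R hR (fun _ f hf => dβ R D f hf)
    (fun _ _ _ _ v => (dβ_comp R D v rfl).symm)

/-- the glued section of the base sheaf -/
noncomputable def bU : (yon S).obj U ⟶ B := (exists_bU (D := D) hR).choose

theorem bU_spec {V : Over S} (f : V ⟶ U) (hf : R f) :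
    (yon S).map f ≫ bU (D := D) hR = dβ R D f hf :=
  (exists_bU (D := D) hR).choose_spec f hf

namespace GPt

theorem σ_hom {T : Over S} (x : GPt R D T) {W : Over S} (w : W ⟶ T) (f : W ⟶ U) (hf : R f)
    (e : w ≫ x.c = f) :
    x.σ w f hf e ≫ (dObj R D f hf).P.hom = (yon S).map f ≫ bU (D := D) hR := by
  rw [← dρ_dβ, ← Category.assoc, x.sec, Category.id_comp, bU_spec]

/-- the action of `G` on points of the glued torsor -/
noncomputable def act {T : Over S} (ga : (yon S).obj T ⟶ G.left) (x : GPt R D T)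
    (h : ga ≫ G.hom = (yon S).map x.c ≫ bU (D := D) hR) : GPt R D T where
  c := x.c
  σ W w f hf e := actL (dObj R D f hf).act ((yon S).map w ≫ ga) (x.σ w f hf e)
    (by rw [Category.assoc, h, σ_hom hR, ← e, Functor.map_comp, Category.assoc])
  sec W w f hf e := by rw [dρ_actL, x.sec]
  nat W W' v w f hf e f' hf' hu := by
    change actL _ _ _ _ ≫ (dτB R D (hf := hf) (hf' := hf') v hu).left = _
    rw [actL_map (dObj R D f' hf').act (dObj R D f hf).act
      (dτB R D (hf := hf) (hf' := hf') v hu) (dτ_eqv R D v hu), actL_comp]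
    refine actL_congr _ ?_ ?_ _ _
    · rw [Functor.map_comp, Category.assoc]
    · exact x.nat v w f hf e f' hf' hu

@[simp] theorem act_c {T : Over S} (ga : (yon S).obj T ⟶ G.left) (x : GPt R D T)
    (h : ga ≫ G.hom = (yon S).map x.c ≫ bU (D := D) hR) : (x.act hR ga h).c = x.c := rfl

theorem act_congr {T : Over S} {ga ga' : (yon S).obj T ⟶ G.left} {x x' : GPt R D T}
    (h1 : ga = ga') (h2 : x = x') (h : ga ≫ G.hom = (yon S).map x.c ≫ bU (D := D) hR)
    (h' : ga' ≫ G.hom = (yon S).map x'.c ≫ bU (D := D) hR) :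
    x.act hR ga h = x'.act hR ga' h' := by
  subst h1 h2
  rfl

theorem act_one {T : Over S} {β : (yon S).obj T ⟶ B} (x : GPt R D T)
    (hβ : (yon S).map x.c ≫ bU (D := D) hR = β) :
    x.act hR (1 : yB T β ⟶ G).left ((Over.w (1 : yB T β ⟶ G)).trans hβ.symm) = x := by
  refine ext' (x := x.act hR _ _) (y := x) rfl ?_
  intro W w f hf e
  have e1 : (yon S).map w ≫ (1 : yB T β ⟶ G).left = (1 : yB W ((yon S).map w ≫ β) ⟶ G).left := by
    have := congrArg CommaMorphism.left (MonObj.comp_one (rB w β) (M := G))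
    exact this
  have hβ' : x.σ w f hf e ≫ (dObj R D f hf).P.hom = (yon S).map w ≫ β := by
    have e' : w ≫ x.c = f := e
    rw [σ_hom hR, ← hβ, ← e', Functor.map_comp, Category.assoc]
  refine Eq.trans ?_ (actL_one (dObj R D f hf).act (x.σ w f hf e) hβ')
  exact actL_congr _ e1 rfl _ _

theorem act_mul {T : Over S} {β : (yon S).obj T ⟶ B} (ga de : yB T β ⟶ G) (x : GPt R D T)
    (hβ : (yon S).map x.c ≫ bU (D := D) hR = β) :
    x.act hR (ga * de).left ((Over.w (ga * de)).trans hβ.symm) =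
      (x.act hR de.left ((Over.w de).trans hβ.symm)).act hR ga.left
        ((Over.w ga).trans hβ.symm) := by
  refine ext' (x := x.act hR _ _) (y := (x.act hR _ _).act hR _ _) rfl ?_
  intro W w f hf e
  have e1 : (yon S).map w ≫ (ga * de).left = ((rB w β ≫ ga) * (rB w β ≫ de)).left := by
    have := congrArg CommaMorphism.left (MonObj.comp_mul (rB w β) ga de)
    exact this
  have hβ' : x.σ w f hf e ≫ (dObj R D f hf).P.hom = (yon S).map w ≫ β := by
    have e' : w ≫ x.c = f := e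
    rw [σ_hom hR, ← hβ, ← e', Functor.map_comp, Category.assoc]
  refine Eq.trans ?_ ((actL_mul (dObj R D f hf).act (rB w β ≫ ga) (rB w β ≫ de)
    (x.σ w f hf e) hβ').trans ?_)
  · exact actL_congr _ e1 rfl _ _
  · rfl

theorem pull_act {T T' : Over S} (g : T' ⟶ T) (ga : (yon S).obj T ⟶ G.left) (x : GPt R D T)
    (h : ga ≫ G.hom = (yon S).map x.c ≫ bU (D := D) hR) :
    (x.act hR ga h).pull g = (x.pull g).act hR ((yon S).map g ≫ ga)
      (by rw [Category.assoc, h, pull_c, Functor.map_comp, Category.assoc]) := by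
  refine ext' (x := (x.act hR ga h).pull g) (y := (x.pull g).act hR _ _) rfl ?_
  intro W w f hf e
  refine actL_congr _ ?_ rfl _ _
  rw [Functor.map_comp, Category.assoc]

theorem ofPt_act {V : Over S} (f : V ⟶ U) (hf : R f) {T : Over S}
    (ga : (yon S).obj T ⟶ G.left) (q : (yon S).obj T ⟶ (dObj R D f hf).P.left)
    (h : ga ≫ G.hom = q ≫ (dObj R D f hf).P.hom) :
    ofPt f hf (actL (dObj R D f hf).act ga q h) = (ofPt f hf q).act hR ga
      (by rw [h, ← dρ_dβ, ofPt_c, Functor.map_comp, map_qb, Category.assoc, Category.assoc,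
        bU_spec]) := by
  have hρ : actL (dObj R D f hf).act ga q h ≫ dρ R D f hf = q ≫ dρ R D f hf :=
    dρ_actL R D f hf ga q h
  have hqb : qb f hf (actL (dObj R D f hf).act ga q h) = qb f hf q := by
    unfold qb
    rw [hρ]
  symm
  apply ext' (by rw [act_c, ofPt_c, ofPt_c, hqb])
  intro W w f' hf' e
  refine ofPtσ_unique f hf _ w f' hf' _ _ rfl _ ?_ ?_
  · have hu : (w ≫ qb f hf (actL (dObj R D f hf).act ga q h)) ≫ f = f' := by
      rw [← e, act_c, ofPt_c, hqb, Category.assoc]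
    have key : (ofPt f hf q).σ w f' hf' e ≫ dτ R D (hf := hf) (hf' := hf')
        (w ≫ qb f hf (actL (dObj R D f hf).act ga q h)) hu = (yon S).map w ≫ q :=
      ofPt_σ_τ f hf q w f' hf' e _ hu (by rw [hqb])
    change actL _ _ _ _ ≫ (dτB R D (hf := hf) (hf' := hf') _ hu).left = _
    rw [actL_map (dObj R D f' hf').act (dObj R D f hf).act
      (dτB R D (hf := hf) (hf' := hf') _ hu) (dτ_eqv R D _ hu), actL_comp]
    exact actL_congr _ rfl key _ _
  · exact ((ofPt f hf q).act hR ga _).sec _ _ _ _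

section torsor

theorem σ_π_eq {T : Over S} (x x' : GPt R D T) {W : Over S} (w : W ⟶ T) (f : W ⟶ U) (hf : R f)
    (e : w ≫ x.c = f) (e' : w ≫ x'.c = f) :
    x.σ w f hf e ≫ (dObj R D f hf).π.left = x'.σ w f hf e' ≫ (dObj R D f hf).π.left := by
  have h1 := x.sec w f hf e
  have h2 := x'.sec w f hf e'
  unfold dρ at h1 h2
  have : IsIso ((yon S).map (eqToHom (dbase R D f hf))) := inferInstance
  rw [← cancel_mono ((yon S).map (eqToHom (dbase R D f hf))), Category.assoc, Category.assoc,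
    h1, h2]

theorem act_inj {T : Over S} (ga ga' : (yon S).obj T ⟶ G.left) (x : GPt R D T)
    (h : ga ≫ G.hom = (yon S).map x.c ≫ bU (D := D) hR)
    (h' : ga' ≫ G.hom = (yon S).map x.c ≫ bU (D := D) hR)
    (e : x.act hR ga h = x.act hR ga' h') : ga = ga' := by
  refine Groth.Agent.H53.yon_hom_ext_of_sieve _ _ (R.pullback x.c)
    ((J S).pullback_stable x.c hR) fun W w hw => ?_
  have h1 := σ_eq_of_eq e w (w ≫ x.c) hw rfl rfl
  exact actL_inj _ _ _ _ _ _ h1

/-- two points of the glued torsor over the same point of the base differ by a point of `G` -/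
theorem exists_act_eq {T : Over S} (x x' : GPt R D T) (hc : x.c = x'.c) :
    ∃ (ga : (yon S).obj T ⟶ G.left) (h : ga ≫ G.hom = (yon S).map x'.c ≫ bU (D := D) hR),
      x'.act hR ga h = x := by
  have hex : ∀ ⦃W : Over S⦄ (w : W ⟶ T) (hw : R (w ≫ x.c)),
      ∃ (ga : (yon S).obj W ⟶ G.left)
        (h : ga ≫ G.hom = x'.σ w (w ≫ x.c) hw (by rw [hc]) ≫ (dObj R D (w ≫ x.c) hw).P.hom),
      actL (dObj R D (w ≫ x.c) hw).act ga (x'.σ w (w ≫ x.c) hw (by rw [hc])) h =
        x.σ w (w ≫ x.c) hw rfl := fun W w hw =>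
    exists_actL_eq _ _ _ (σ_π_eq x x' w _ hw rfl (by rw [hc]))
  choose γ₀ h₀ hγ₀ using hex
  obtain ⟨ga, hga⟩ := exists_glue_yon (F := G.left) (R.pullback x.c)
    ((J S).pullback_stable x.c hR) (fun W w hw => γ₀ w hw) (by
      intro W W' w hw0 v
      have hw : R (w ≫ x.c) := hw0
      have hw' : R ((v ≫ w) ≫ x.c) := (R.pullback x.c).downward_closed hw0 v
      have hu : v ≫ w ≫ x.c = (v ≫ w) ≫ x.c := (Category.assoc _ _ _).symm
      have hh : ((yon S).map v ≫ γ₀ w hw) ≫ G.hom =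
          x'.σ (v ≫ w) ((v ≫ w) ≫ x.c) hw' (by rw [hc]) ≫
            (dObj R D ((v ≫ w) ≫ x.c) hw').P.hom := by
        rw [Category.assoc, h₀ w hw, σ_hom hR, σ_hom hR, ← Category.assoc, ← Functor.map_comp, hu]
      apply actL_inj (dObj R D ((v ≫ w) ≫ x.c) hw') _ _
        (x'.σ (v ≫ w) ((v ≫ w) ≫ x.c) hw' (by rw [hc])) (h₀ (v ≫ w) hw') hh
      rw [hγ₀ (v ≫ w) hw']
      apply sec_ext R D v hu
      · change _ = actL _ _ _ _ ≫ (dτB R D (hf := hw) (hf' := hw') v hu).left
        rw [actL_map (dObj R D _ hw').act (dObj R D _ hw).act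
          (dτB R D (hf := hw) (hf' := hw') v hu) (dτ_eqv R D v hu), x.nat v w _ hw rfl _ hw' hu,
          ← hγ₀ w hw, actL_comp]
        exact actL_congr _ rfl (x'.nat v w _ hw (by rw [hc]) _ hw' hu).symm _ _
      · rw [dρ_actL, x.sec, x'.sec])
  have hgaB : ga ≫ G.hom = (yon S).map x'.c ≫ bU (D := D) hR := by
    refine Groth.Agent.H53.yon_hom_ext_of_sieve _ _ (R.pullback x.c)
      ((J S).pullback_stable x.c hR) fun W w hw => ?_
    have hw' : R (w ≫ x.c) := hw
    rw [← Category.assoc, hga w hw, h₀ w hw', σ_hom hR, ← Category.assoc, ← Functor.map_comp,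
      hc]
  refine ⟨ga, hgaB, ?_⟩
  refine ext' (x := x'.act hR ga hgaB) (y := x) hc.symm ?_
  intro W w f hf e
  have e' : w ≫ x.c = f := by rw [hc]; exact e
  subst e'
  refine Eq.trans ?_ (hγ₀ w hf)
  exact actL_congr _ (hga w hf) rfl _ _

include hR in
/-- the equivariant map to `X` on points of the glued torsor -/
theorem exists_φ {T : Over S} (x : GPt R D T) :
    ∃ a : (yon S).obj T ⟶ X.left, ∀ ⦃W : Over S⦄ (w : W ⟶ T)
    (f : W ⟶ U) (hf : R f) (e : w ≫ x.c = f),
      (yon S).map w ≫ a = x.σ w f hf e ≫ (dObj R D f hf).φ.left := by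
  obtain ⟨a, ha⟩ := exists_glue_yon (F := X.left) (R.pullback x.c)
    ((J S).pullback_stable x.c hR)
    (fun W w hw => x.σ w (w ≫ x.c) hw rfl ≫ (dObj R D (w ≫ x.c) hw).φ.left) (by
      intro W W' w hw v
      have hw' : R ((v ≫ w) ≫ x.c) := (R.pullback x.c).downward_closed hw v
      have hu : v ≫ w ≫ x.c = (v ≫ w) ≫ x.c := (Category.assoc _ _ _).symm
      change x.σ (v ≫ w) ((v ≫ w) ≫ x.c) hw' rfl ≫ _ = _
      rw [← dτ_φ R D v hu, ← Category.assoc, x.nat v w _ hw rfl _ hw' hu, Category.assoc])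
  refine ⟨a, ?_⟩
  intro W w f hf e
  subst e
  exact ha w hf

/-- the equivariant map to `X` on points of the glued torsor -/
noncomputable def gφ {T : Over S} (x : GPt R D T) : (yon S).obj T ⟶ X.left :=
  (exists_φ hR x).choose

theorem gφ_spec {T : Over S} (x : GPt R D T) {W : Over S} (w : W ⟶ T)
    (f : W ⟶ U) (hf : R f) (e : w ≫ x.c = f) :
    (yon S).map w ≫ gφ hR x = x.σ w f hf e ≫ (dObj R D f hf).φ.left :=
  (exists_φ hR x).choose_spec w f hf e

theorem gφ_hom {T : Over S} (x : GPt R D T) :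
    gφ hR x ≫ X.hom = (yon S).map x.c ≫ bU (D := D) hR := by
  refine Groth.Agent.H53.yon_hom_ext_of_sieve _ _ (R.pullback x.c)
    ((J S).pullback_stable x.c hR) fun W w hw => ?_
  have hw' : R (w ≫ x.c) := hw
  rw [← Category.assoc, gφ_spec hR x w _ hw' rfl, Category.assoc, Over.w, σ_hom hR,
    Functor.map_comp, Category.assoc]

theorem gφ_pull {T T' : Over S} (g : T' ⟶ T) (x : GPt R D T) :
    gφ hR (x.pull g) = (yon S).map g ≫ gφ hR x := by
  refine Groth.Agent.H53.yon_hom_ext_of_sieve _ _ (R.pullback (x.pull g).c)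
    ((J S).pullback_stable _ hR) fun W w hw => ?_
  have hw' : R (w ≫ (x.pull g).c) := hw
  have e2 : (w ≫ g) ≫ x.c = w ≫ (x.pull g).c := by rw [Category.assoc]; rfl
  have h1 := gφ_spec hR x (w ≫ g) _ hw' e2
  rw [gφ_spec hR (x.pull g) w _ hw' rfl, pull_σ]
  refine h1.symm.trans ?_
  rw [Functor.map_comp, Category.assoc]

theorem gφ_act {T : Over S} (ga : (yon S).obj T ⟶ G.left) (x : GPt R D T)
    (h : ga ≫ G.hom = (yon S).map x.c ≫ bU (D := D) hR) :
    gφ hR (x.act hR ga h) = actL aX ga (gφ hR x) (by rw [h, gφ_hom]) := by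
  refine Groth.Agent.H53.yon_hom_ext_of_sieve _ _ (R.pullback x.c)
    ((J S).pullback_stable _ hR) fun W w hw => ?_
  have hw' : R (w ≫ x.c) := hw
  rw [gφ_spec hR (x.act hR ga h) w _ hw' rfl, actL_comp]
  change actL _ _ _ _ ≫ _ = _
  rw [actL_map (dObj R D _ hw').act aX (dObj R D _ hw').φ (dObj R D _ hw').eqv]
  exact actL_congr _ rfl (gφ_spec hR x w _ hw' rfl).symm _ _

theorem gφ_ofPt {V : Over S} (f : V ⟶ U) (hf : R f) {T : Over S}
    (q : (yon S).obj T ⟶ (dObj R D f hf).P.left) :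
    gφ hR (ofPt f hf q) = q ≫ (dObj R D f hf).φ.left := by
  refine Groth.Agent.H53.yon_hom_ext_of_sieve _ _ (R.pullback (ofPt f hf q).c)
    ((J S).pullback_stable _ hR) fun W w hw => ?_
  have hw' : R (w ≫ (ofPt f hf q).c) := hw
  have hu : (w ≫ qb f hf q) ≫ f = w ≫ (ofPt f hf q).c := by simp
  rw [gφ_spec hR (ofPt f hf q) w _ hw' rfl, ← dτ_φ R D (w ≫ qb f hf q) hu,
    ← Category.assoc, ofPt_σ_τ f hf q w _ hw' rfl _ hu rfl, Category.assoc]

end torsor

end GPt

end base

end Groth.Agent.H64.SpQ
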