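import Groth.Agent.H64.SpQ.GlueObj2

set_option autoImplicit false
universe u
open CategoryTheory CategoryTheory.Limits MonoidalCategory CartesianMonoidalCategory MonObj GrpObj
  AlgebraicGeometry Opposite

/-! The cone from a descent datum for `[X/G]` (sheaf torsors) to the glued object; effectivity
of descent data. -/

namespace Groth.Agent.H64.SpQ

open AlgSp AlgSt Groth.Agent.H64.Quot Groth.Agent.H84.StkConcrete Groth.Agent.H84.StkRefine

variable {S : Scheme.{u}} {B : AlgSp.Sp S} {G : Over B} [GrpObj G] {X : Over B}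
  {aX : AlgSp.GAction G X} {U : Over S} {R : Sieve U}
  {D : Stk.sieveCat R ⥤ᵇ SpQuotSt Scheme.fppfPrecoverage G aX}

variable (hR : R ∈ J S U)

theorem exists_gκ {V : Over S} (f : V ⟶ U) (hf : R f) :
    ∃ a : (dObj R D f hf).P.left ⟶ gSh R D, ∀ ⦃T : Over S⦄
      (q : (yon S).obj T ⟶ (dObj R D f hf).P.left), q ≫ a = ptInv (GPt.ofPt f hf q) :=
  exists_hom_of_pts (fun T q => ptInv (GPt.ofPt f hf q)) (by
    intro T T' v q
    rw [← ptInv_pull, GPt.ofPt_pull])

/-- the chart of the glued torsor, on underlying sheaves -/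
noncomputable def gκ₀ {V : Over S} (f : V ⟶ U) (hf : R f) :
    (dObj R D f hf).P.left ⟶ gSh R D := (exists_gκ (D := D) f hf).choose

theorem pt_comp_gκ₀ {V : Over S} (f : V ⟶ U) (hf : R f) {T : Over S}
    (q : (yon S).obj T ⟶ (dObj R D f hf).P.left) :
    pt (q ≫ gκ₀ f hf) = GPt.ofPt f hf q := by
  rw [gκ₀, (exists_gκ (D := D) f hf).choose_spec q, pt_ptInv]

theorem gκ₀_gπ {V : Over S} (f : V ⟶ U) (hf : R f) :
    gκ₀ (D := D) f hf ≫ gπ = dρ R D f hf ≫ (yon S).map f := by
  refine Groth.Agent.H53.sp_hom_ext fun T q => ?_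
  rw [← Category.assoc, comp_gπ, pt_comp_gκ₀, GPt.ofPt_c, Functor.map_comp, map_qb,
    Category.assoc]

/-- the chart of the glued torsor -/
noncomputable def gκ {V : Over S} (f : V ⟶ U) (hf : R f) :
    (dObj R D f hf).P ⟶ gP (D := D) hR :=
  Over.homMk (gκ₀ f hf) (by
    change gκ₀ f hf ≫ gπ ≫ bU (D := D) hR = _
    rw [← Category.assoc, gκ₀_gπ, Category.assoc, bU_spec hR f hf, dρ_dβ])

theorem gκ_gΦ {V : Over S} (f : V ⟶ U) (hf : R f) :
    gκ hR f hf ≫ gΦ (D := D) hR = (dObj R D f hf).φ := by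
  apply Over.OverMorphism.ext
  change gκ₀ f hf ≫ gΦ₀ hR = _
  refine Groth.Agent.H53.sp_hom_ext fun T q => ?_
  rw [← Category.assoc, comp_gΦ₀, pt_comp_gκ₀, GPt.gφ_ofPt]

theorem gκ_eqv {V : Over S} (f : V ⟶ U) (hf : R f) :
    (dObj R D f hf).act.act ≫ gκ hR f hf = (G ◁ gκ hR f hf) ≫ gact hR := by
  refine hom_ext_pts _ _ fun T β t => ?_
  rw [lift_fst_snd_pt t]
  generalize t ≫ fst G (dObj R D f hf).P = ga
  generalize t ≫ snd G (dObj R D f hf).P = q
  have e : lift ga q ≫ (G ◁ gκ hR f hf) = lift ga (q ≫ gκ hR f hf) := by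
    apply CartesianMonoidalCategory.hom_ext
    · simp only [Category.assoc, whiskerLeft_fst, lift_fst]
    · simp only [Category.assoc, whiskerLeft_snd, lift_snd, lift_snd_assoc]
  rw [← Category.assoc, ← Category.assoc, e]
  apply Over.OverMorphism.ext
  rw [lift_gact_left]
  change (lift ga q ≫ (dObj R D f hf).act.act).left ≫ gκ₀ f hf = _
  rw [lift_act_left]
  apply pt_injective
  rw [pt_comp_gκ₀, pt_gactL, GPt.ofPt_act hR]
  refine GPt.act_congr hR rfl ?_ _ _
  change _ = pt (q.left ≫ gκ₀ f hf)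
  rw [pt_comp_gκ₀]

theorem gCone_wb {V : Over S} (f : V ⟶ U) (hf : R f) :
    (yon S).map (eqToHom (dbase R D f hf) ≫ f) ≫ bU (D := D) hR = (dObj R D f hf).b := by
  rw [Functor.map_comp, Category.assoc, bU_spec hR f hf, dβ, ← Category.assoc, ← Functor.map_comp,
    eqToHom_trans, eqToHom_refl, CategoryTheory.Functor.map_id, Category.id_comp]

/-- the cone maps -/
noncomputable def gCone {V : Over S} (f : V ⟶ U) (hf : R f) :
    dObj R D f hf ⟶ gObj (D := D) hR where
  base := eqToHom (dbase R D f hf) ≫ f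
  wb := gCone_wb hR f hf
  top := gκ hR f hf
  eqv := gκ_eqv hR f hf
  cart := cart_of_eqv (A := dObj R D f hf) (A' := gObj (D := D) hR) _ _ (by
    apply Over.OverMorphism.ext
    change gκ₀ f hf ≫ gπ = (dObj R D f hf).π.left ≫ (yon S).map (eqToHom (dbase R D f hf) ≫ f)
    rw [gκ₀_gπ, dρ, Functor.map_comp, Category.assoc]) (gκ_eqv hR f hf)
  wφ := gκ_gΦ hR f hf

theorem gCone_isHomLift {V : Over S} (f : V ⟶ U) (hf : R f) :
    (SpQuotSt Scheme.fppfPrecoverage G aX).p.IsHomLift f (gCone (D := D) hR f hf) := by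
  have hb : (SpQuotSt Scheme.fppfPrecoverage G aX).p.obj (gObj (D := D) hR) = U := rfl
  have hfac : f = eqToHom (dbase R D f hf).symm ≫
      (SpQuotSt Scheme.fppfPrecoverage G aX).p.map (gCone hR f hf) ≫ eqToHom hb := by
    have h2 : (SpQuotSt Scheme.fppfPrecoverage G aX).p.map (gCone hR f hf) ≫ eqToHom hb =
        eqToHom (dbase R D f hf) ≫ f := Category.comp_id _
    have h3 : eqToHom (dbase R D f hf).symm ≫ (eqToHom (dbase R D f hf) ≫ f) = f := by
      rw [← Category.assoc, eqToHom_trans, eqToHom_refl, Category.id_comp]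
    exact h3.symm.trans (congrArg (fun k => eqToHom (dbase R D f hf).symm ≫ k) h2.symm)
  exact IsHomLift.of_fac (SpQuotSt Scheme.fppfPrecoverage G aX).p f (gCone hR f hf)
    (dbase R D f hf) hb hfac

theorem gCone_nat {V V' : Over S} {f : V ⟶ U} {hf : R f} {f' : V' ⟶ U} {hf' : R f'}
    (u : V' ⟶ V) (hu : u ≫ f = f') :
    dMap R D (hf := hf) (hf' := hf') u hu ≫ gCone hR f hf = gCone hR f' hf' := by
  apply SpQuotObj.hom_ext
  · change (dMap R D (hf := hf) (hf' := hf') u hu).base ≫ eqToHom (dbase R D f hf) ≫ f =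
      eqToHom (dbase R D f' hf') ≫ f'
    rw [dMap_base]
    simp only [Category.assoc, eqToHom_trans_assoc, eqToHom_refl, Category.id_comp]
    rw [hu]
  · apply Over.OverMorphism.ext
    change dτ R D (hf := hf) (hf' := hf') u hu ≫ gκ₀ f hf = gκ₀ f' hf'
    refine Groth.Agent.H53.sp_hom_ext fun T q => ?_
    apply pt_injective
    rw [← Category.assoc, pt_comp_gκ₀, pt_comp_gκ₀, GPt.ofPt_τ]

/-- descent data for `[X/G]` along covering sieves are effective -/
theorem exists_glue_obj (hR : R ∈ J S U)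
    (D : Stk.sieveCat R ⥤ᵇ SpQuotSt Scheme.fppfPrecoverage G aX) :
    ∃ (t : (SpQuotSt Scheme.fppfPrecoverage G aX).obj)
      (_ : (SpQuotSt Scheme.fppfPrecoverage G aX).p.obj t = U)
      (π : ∀ r : (Stk.sieveCat R).obj, D.obj r ⟶ t),
      (∀ r, (SpQuotSt Scheme.fppfPrecoverage G aX).p.IsHomLift r.obj.hom (π r)) ∧
      ∀ {r' r : (Stk.sieveCat R).obj} (m : r' ⟶ r), D.map m ≫ π r = π r' := by
  refine ⟨gObj (D := D) hR, rfl, fun r => gCone hR r.obj.hom r.property,
    fun r => gCone_isHomLift hR r.obj.hom r.property, ?_⟩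
  intro r' r m
  have hm : m = mkHom R (r' := mkObj R r'.obj.hom r'.property)
      (r := mkObj R r.obj.hom r.property) m.hom.left (Over.w m.hom) := mkHom_ext R _ _ rfl
  rw [hm]
  exact gCone_nat hR m.hom.left (Over.w m.hom)

/-- `[X/G]` with sheaf torsors is a stack for the fppf topology -/
theorem isStack_spQuotSt : Stk.IsStack (J S) (SpQuotSt Scheme.fppfPrecoverage G aX) :=
  ⟨isFibGrpd_spQuotSt, fun _ R hR =>
    { faithful := resSieve_faithful R hR
      full := resSieve_full R hR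
      essSurj := essSurj_of_glue_obj isFibGrpd_spQuotSt R (fun D => exists_glue_obj hR D) }⟩

end Groth.Agent.H64.SpQ
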