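import Groth.Agent.H64.SpQ.Prestack
import Groth.Agent.H64.SpQ.ActL
import Groth.Agent.H84.StkRefine

/-!
# A descent datum for `[X/G]` (sheaf torsors) along a sieve: the underlying family of torsors
-/

set_option autoImplicit false
universe u
open CategoryTheory CategoryTheory.Limits MonoidalCategory CartesianMonoidalCategory MonObj GrpObj
  AlgebraicGeometry Opposite

namespace Groth.Agent.H64.SpQ

open AlgSp AlgSt Groth.Agent.H84.StkConcrete Groth.Agent.H84.StkRefine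

variable {S : Scheme.{u}} {K : Precoverage Scheme.{u}} {B : AlgSp.Sp S} {G : Over B} [GrpObj G]
  {X : Over B} {aX : AlgSp.GAction G X} {U : Over S} (R : Sieve U)
  (D : Stk.sieveCat R ⥤ᵇ SpQuotSt K G aX)

/-- the torsor of the descent datum over an arrow of the sieve -/
abbrev dObj {V : Over S} (f : V ⟶ U) (hf : R f) : SpQuotObj K G aX := D.obj (mkObj R f hf)

theorem dbase {V : Over S} (f : V ⟶ U) (hf : R f) : (dObj R D f hf).base = V :=
  D.w_obj (mkObj R f hf)

/-- the section of `B` over the source of the arrow -/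
noncomputable def dβ {V : Over S} (f : V ⟶ U) (hf : R f) : (yon S).obj V ⟶ B :=
  (yon S).map (eqToHom (dbase R D f hf).symm) ≫ (dObj R D f hf).b

/-- the structure map of the torsor to the source of the arrow -/
noncomputable def dρ {V : Over S} (f : V ⟶ U) (hf : R f) :
    (dObj R D f hf).P.left ⟶ (yon S).obj V :=
  (dObj R D f hf).π.left ≫ (yon S).map (eqToHom (dbase R D f hf))

theorem dρ_dβ {V : Over S} (f : V ⟶ U) (hf : R f) :
    dρ R D f hf ≫ dβ R D f hf = (dObj R D f hf).P.hom := by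
  have h1 : (dObj R D f hf).π.left ≫ (dObj R D f hf).b = (dObj R D f hf).P.hom :=
    Over.w (dObj R D f hf).π
  rw [dρ, dβ, Category.assoc, ← Category.assoc ((yon S).map _), ← Functor.map_comp,
    eqToHom_trans, eqToHom_refl, CategoryTheory.Functor.map_id, Category.id_comp, h1]

/-- the transition morphisms of the descent datum -/
noncomputable def dMap {V V' : Over S} {f : V ⟶ U} {hf : R f} {f' : V' ⟶ U} {hf' : R f'}
    (u : V' ⟶ V) (hu : u ≫ f = f') : dObj R D f' hf' ⟶ dObj R D f hf :=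
  D.map (mkHom R (r' := mkObj R f' hf') (r := mkObj R f hf) u hu)

theorem dMap_isHomLift {V V' : Over S} {f : V ⟶ U} {hf : R f} {f' : V' ⟶ U} {hf' : R f'}
    (u : V' ⟶ V) (hu : u ≫ f = f') :
    (SpQuotSt K G aX).p.IsHomLift u (dMap R D (hf := hf) (hf' := hf') u hu) :=
  sieve_map_isHomLift R D (mkHom R (r' := mkObj R f' hf') (r := mkObj R f hf) u hu)

theorem dMap_base {V V' : Over S} {f : V ⟶ U} {hf : R f} {f' : V' ⟶ U} {hf' : R f'}
    (u : V' ⟶ V) (hu : u ≫ f = f') :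
    (dMap R D (hf := hf) (hf' := hf') u hu).base =
      eqToHom (dbase R D f' hf') ≫ u ≫ eqToHom (dbase R D f hf).symm := by
  have := dMap_isHomLift R D (hf := hf) (hf' := hf') u hu
  exact IsHomLift.fac' (SpQuotSt K G aX).p u _

theorem dMap_id {V : Over S} {f : V ⟶ U} {hf : R f} (hu : 𝟙 V ≫ f = f) :
    dMap R D (hf := hf) (hf' := hf) (𝟙 V) hu = 𝟙 _ := by
  have : mkHom R (r' := mkObj R f hf) (r := mkObj R f hf) (𝟙 V) hu = 𝟙 _ := by
    apply mkHom_ext
    rfl
  change D.map _ = _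
  rw [this, D.map_id]

theorem dMap_comp {V V' V'' : Over S} {f : V ⟶ U} {hf : R f} {f' : V' ⟶ U} {hf' : R f'}
    {f'' : V'' ⟶ U} {hf'' : R f''} (u : V' ⟶ V) (hu : u ≫ f = f') (u' : V'' ⟶ V')
    (hu' : u' ≫ f' = f'') (huu : (u' ≫ u) ≫ f = f'') :
    dMap R D (hf := hf) (hf' := hf'') (u' ≫ u) huu =
      dMap R D (hf := hf') (hf' := hf'') u' hu' ≫ dMap R D (hf := hf) (hf' := hf') u hu := by
  have : mkHom R (r' := mkObj R f'' hf'') (r := mkObj R f hf) (u' ≫ u) huu =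
      mkHom R (r' := mkObj R f'' hf'') (r := mkObj R f' hf') u' hu' ≫
        mkHom R (r' := mkObj R f' hf') (r := mkObj R f hf) u hu := by
    apply mkHom_ext
    rfl
  change D.map _ = D.map _ ≫ D.map _
  rw [this, D.map_comp]

theorem dβ_comp {V V' : Over S} {f : V ⟶ U} {hf : R f} {f' : V' ⟶ U} {hf' : R f'}
    (u : V' ⟶ V) (hu : u ≫ f = f') : (yon S).map u ≫ dβ R D f hf = dβ R D f' hf' := by
  have h1 := (dMap R D (hf := hf) (hf' := hf') u hu).wb
  rw [dMap_base, Functor.map_comp, Functor.map_comp, Category.assoc, Category.assoc] at h1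
  rw [dβ, dβ, ← h1, ← Category.assoc ((yon S).map (eqToHom _)), ← Functor.map_comp,
    eqToHom_trans, eqToHom_refl, CategoryTheory.Functor.map_id, Category.id_comp]

/-- the transition maps on total sheaves, over `B` -/
noncomputable abbrev dτB {V V' : Over S} {f : V ⟶ U} {hf : R f} {f' : V' ⟶ U} {hf' : R f'}
    (u : V' ⟶ V) (hu : u ≫ f = f') : (dObj R D f' hf').P ⟶ (dObj R D f hf).P :=
  (dMap R D (hf := hf) (hf' := hf') u hu).top

/-- the transition maps on total sheaves -/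
noncomputable abbrev dτ {V V' : Over S} {f : V ⟶ U} {hf : R f} {f' : V' ⟶ U} {hf' : R f'}
    (u : V' ⟶ V) (hu : u ≫ f = f') : (dObj R D f' hf').P.left ⟶ (dObj R D f hf).P.left :=
  (dτB R D (hf := hf) (hf' := hf') u hu).left

theorem dτ_id {V : Over S} {f : V ⟶ U} {hf : R f} (hu : 𝟙 V ≫ f = f) :
    dτ R D (hf := hf) (hf' := hf) (𝟙 V) hu = 𝟙 _ := by
  change (dMap R D (hf := hf) (hf' := hf) (𝟙 V) hu).top.left = _
  rw [dMap_id]
  rfl

theorem dτ_comp {V V' V'' : Over S} {f : V ⟶ U} {hf : R f} {f' : V' ⟶ U} {hf' : R f'}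
    {f'' : V'' ⟶ U} {hf'' : R f''} (u : V' ⟶ V) (hu : u ≫ f = f') (u' : V'' ⟶ V')
    (hu' : u' ≫ f' = f'') (huu : (u' ≫ u) ≫ f = f'') :
    dτ R D (hf := hf) (hf' := hf'') (u' ≫ u) huu =
      dτ R D (hf := hf') (hf' := hf'') u' hu' ≫ dτ R D (hf := hf) (hf' := hf') u hu := by
  change (dMap R D (hf := hf) (hf' := hf'') (u' ≫ u) huu).top.left = _
  rw [dMap_comp R D u hu u' hu' huu]
  rfl

theorem dτ_congr {V V' : Over S} {f : V ⟶ U} {hf : R f} {f' : V' ⟶ U} {hf' : R f'}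
    {u u' : V' ⟶ V} (h : u = u') (hu : u ≫ f = f') (hu' : u' ≫ f = f') :
    dτ R D (hf := hf) (hf' := hf') u hu = dτ R D (hf := hf) (hf' := hf') u' hu' := by
  subst h
  rfl

theorem dτ_cart {V V' : Over S} {f : V ⟶ U} {hf : R f} {f' : V' ⟶ U} {hf' : R f'}
    (u : V' ⟶ V) (hu : u ≫ f = f') :
    IsPullback (dτ R D (hf := hf) (hf' := hf') u hu) (dρ R D f' hf') (dρ R D f hf)
      ((yon S).map u) := by
  have h0 : IsPullback (dτ R D (hf := hf) (hf' := hf') u hu) (dObj R D f' hf').π.left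
      (dObj R D f hf).π.left ((yon S).map (dMap R D (hf := hf) (hf' := hf') u hu).base) :=
    (dMap R D (hf := hf) (hf' := hf') u hu).cart.map (Over.forget B)
  refine IsPullback.of_iso h0 (Iso.refl _) (Iso.refl _)
    ((yon S).mapIso (eqToIso (dbase R D f' hf'))) ((yon S).mapIso (eqToIso (dbase R D f hf)))
    ?_ ?_ ?_ ?_
  · simp
  · simp [dρ]
  · simp [dρ]
  · rw [dMap_base]
    simp [← Functor.map_comp]

theorem dτ_ρ {V V' : Over S} {f : V ⟶ U} {hf : R f} {f' : V' ⟶ U} {hf' : R f'}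
    (u : V' ⟶ V) (hu : u ≫ f = f') :
    dτ R D (hf := hf) (hf' := hf') u hu ≫ dρ R D f hf = dρ R D f' hf' ≫ (yon S).map u :=
  (dτ_cart R D u hu).w

theorem dτ_eqv {V V' : Over S} {f : V ⟶ U} {hf : R f} {f' : V' ⟶ U} {hf' : R f'}
    (u : V' ⟶ V) (hu : u ≫ f = f') :
    (dObj R D f' hf').act.act ≫ dτB R D (hf := hf) (hf' := hf') u hu =
      (G ◁ dτB R D (hf := hf) (hf' := hf') u hu) ≫ (dObj R D f hf).act.act :=
  (dMap R D (hf := hf) (hf' := hf') u hu).eqv

theorem dτ_φ {V V' : Over S} {f : V ⟶ U} {hf : R f} {f' : V' ⟶ U} {hf' : R f'}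
    (u : V' ⟶ V) (hu : u ≫ f = f') :
    dτ R D (hf := hf) (hf' := hf') u hu ≫ (dObj R D f hf).φ.left = (dObj R D f' hf').φ.left :=
  congrArg CommaMorphism.left (dMap R D (hf := hf) (hf' := hf') u hu).wφ

theorem dρ_actL {V : Over S} (f : V ⟶ U) (hf : R f) {W : Over S} (ga : (yon S).obj W ⟶ G.left)
    (p : (yon S).obj W ⟶ (dObj R D f hf).P.left) (h : ga ≫ G.hom = p ≫ (dObj R D f hf).P.hom) :
    actL (dObj R D f hf).act ga p h ≫ dρ R D f hf = p ≫ dρ R D f hf := by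
  rw [dρ, ← Category.assoc, actL_π, Category.assoc]

/-- sections of a member of the descent datum are determined by their image in another member -/
theorem sec_ext {V V' : Over S} {f : V ⟶ U} {hf : R f} {f' : V' ⟶ U} {hf' : R f'}
    (u : V' ⟶ V) (hu : u ≫ f = f') {Y : Sp S} (s₁ s₂ : Y ⟶ (dObj R D f' hf').P.left)
    (h1 : s₁ ≫ dτ R D (hf := hf) (hf' := hf') u hu = s₂ ≫ dτ R D (hf := hf) (hf' := hf') u hu)
    (h2 : s₁ ≫ dρ R D f' hf' = s₂ ≫ dρ R D f' hf') : s₁ = s₂ :=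
  (dτ_cart R D u hu).hom_ext h1 h2

end Groth.Agent.H64.SpQ
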