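import Groth.Agent.H64.SpQ.GlueAct

set_option autoImplicit false
universe u
open CategoryTheory CategoryTheory.Limits MonoidalCategory CartesianMonoidalCategory MonObj GrpObj
  AlgebraicGeometry Opposite

/-! The torsor glued from a descent datum for `[X/G]` (sheaf torsors): the total sheaf, its
structure map, the action and the equivariant map. -/

namespace Groth.Agent.H64.SpQ

open AlgSp AlgSt Groth.Agent.H64.Quot

variable {S : Scheme.{u}} {B : AlgSp.Sp S} {G : Over B} [GrpObj G] {X : Over B}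
  {aX : AlgSp.GAction G X} {U : Over S} {R : Sieve U}
  {D : Stk.sieveCat R ⥤ᵇ SpQuotSt Scheme.fppfPrecoverage G aX}

section pt

/-- the points of the sheaf of points are the points of the glued torsor -/
noncomputable def ptEquiv (T : Over S) : ((yon S).obj T ⟶ gSh R D) ≃ GPt R D T :=
  (J S).uliftYonedaEquiv (F := gSh R D)

/-- the points of the sheaf of points, as points of the glued torsor -/
noncomputable def pt {T : Over S} (q : (yon S).obj T ⟶ gSh R D) : GPt R D T :=
  ptEquiv T q

/-- the inverse of `pt` -/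
noncomputable def ptInv {T : Over S} (x : GPt R D T) : (yon S).obj T ⟶ gSh R D :=
  (ptEquiv T).symm x

theorem ptInv_pt {T : Over S} (q : (yon S).obj T ⟶ gSh R D) : ptInv (pt q) = q :=
  (ptEquiv T).symm_apply_apply q

theorem pt_ptInv {T : Over S} (x : GPt R D T) : pt (ptInv x) = x :=
  (ptEquiv T).apply_symm_apply x

theorem pt_injective {T : Over S} {q q' : (yon S).obj T ⟶ gSh R D} (h : pt q = pt q') :
    q = q' := by
  rw [← ptInv_pt q, h, ptInv_pt]

theorem pt_comp {T T' : Over S} (g : T' ⟶ T) (q : (yon S).obj T ⟶ gSh R D) :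
    pt ((yon S).map g ≫ q) = (pt q).pull g :=
  ((J S).uliftYonedaEquiv_naturality (F := gSh R D) q g).symm

theorem ptInv_pull {T T' : Over S} (g : T' ⟶ T) (x : GPt R D T) :
    ptInv (x.pull g) = (yon S).map g ≫ ptInv x := by
  apply pt_injective
  rw [pt_comp, pt_ptInv, pt_ptInv]

theorem exists_gπ : ∃ π : gSh R D ⟶ (yon S).obj U, ∀ ⦃T : Over S⦄
    (q : (yon S).obj T ⟶ gSh R D), q ≫ π = (yon S).map (pt q).c :=
  exists_hom_of_pts (fun T q => (yon S).map (pt q).c) (by
    intro T T' v q
    rw [pt_comp, GPt.pull_c, Functor.map_comp])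

/-- the structure map of the glued torsor -/
noncomputable def gπ : gSh R D ⟶ (yon S).obj U := (exists_gπ (R := R) (D := D)).choose

theorem comp_gπ {T : Over S} (q : (yon S).obj T ⟶ gSh R D) :
    q ≫ gπ = (yon S).map (pt q).c :=
  (exists_gπ (R := R) (D := D)).choose_spec q

end pt

variable (hR : R ∈ J S U)

/-- the glued torsor, over `B` -/
noncomputable abbrev gP : Over B := Over.mk (gπ (R := R) (D := D) ≫ bU (D := D) hR)

/-- the structure map of the glued torsor, over `B` -/
noncomputable def gπB : gP (D := D) hR ⟶ yB U (bU (D := D) hR) := Over.homMk gπ rfl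

theorem pt_hom {T : Over S} (q : (yon S).obj T ⟶ gSh R D) :
    q ≫ (gP (D := D) hR).hom = (yon S).map (pt q).c ≫ bU (D := D) hR := by
  change q ≫ gπ ≫ _ = _
  rw [← Category.assoc, comp_gπ]

/-- the action on points of the glued torsor -/
noncomputable def gactL {T : Over S} (ga : (yon S).obj T ⟶ G.left)
    (q : (yon S).obj T ⟶ gSh R D) (h : ga ≫ G.hom = q ≫ (gP (D := D) hR).hom) :
    (yon S).obj T ⟶ gSh R D :=
  ptInv ((pt q).act hR ga (h.trans (pt_hom hR q)))

theorem pt_gactL {T : Over S} (ga : (yon S).obj T ⟶ G.left)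
    (q : (yon S).obj T ⟶ gSh R D) (h : ga ≫ G.hom = q ≫ (gP (D := D) hR).hom) :
    pt (gactL hR ga q h) = (pt q).act hR ga (h.trans (pt_hom hR q)) := pt_ptInv _

theorem gactL_congr {T : Over S} {ga ga' : (yon S).obj T ⟶ G.left}
    {q q' : (yon S).obj T ⟶ gSh R D} (h1 : ga = ga') (h2 : q = q')
    (h : ga ≫ G.hom = q ≫ (gP (D := D) hR).hom) (h' : ga' ≫ G.hom = q' ≫ (gP (D := D) hR).hom) :
    gactL hR ga q h = gactL hR ga' q' h' := by
  subst h1 h2
  rfl

theorem gactL_comp {T T' : Over S} (v : T' ⟶ T) (ga : (yon S).obj T ⟶ G.left)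
    (q : (yon S).obj T ⟶ gSh R D) (h : ga ≫ G.hom = q ≫ (gP (D := D) hR).hom) :
    (yon S).map v ≫ gactL hR ga q h = gactL hR ((yon S).map v ≫ ga) ((yon S).map v ≫ q)
      (by rw [Category.assoc, Category.assoc, h]) := by
  apply pt_injective
  rw [pt_comp, pt_gactL, pt_gactL, GPt.pull_act]
  exact GPt.act_congr hR rfl (pt_comp v q).symm _ _

theorem gactL_hom {T : Over S} (ga : (yon S).obj T ⟶ G.left)
    (q : (yon S).obj T ⟶ gSh R D) (h : ga ≫ G.hom = q ≫ (gP (D := D) hR).hom) :
    gactL hR ga q h ≫ (gP (D := D) hR).hom = q ≫ (gP (D := D) hR).hom := by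
  rw [pt_hom, pt_hom, pt_gactL, GPt.act_c]

theorem exists_gact : ∃ a : (G ⊗ gP (D := D) hR).left ⟶ gSh R D, ∀ ⦃T : Over S⦄
    (p : (yon S).obj T ⟶ (G ⊗ gP (D := D) hR).left),
    p ≫ a = gactL hR (p ≫ (fst G (gP (D := D) hR)).left) (p ≫ (snd G (gP (D := D) hR)).left)
      (by rw [Category.assoc, Category.assoc, Over.w, Over.w]) :=
  exists_hom_of_pts (fun T p => gactL hR (p ≫ (fst G (gP (D := D) hR)).left)
      (p ≫ (snd G (gP (D := D) hR)).left)
      (by rw [Category.assoc, Category.assoc, Over.w, Over.w])) (by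
    intro T T' v p
    rw [gactL_comp]
    exact gactL_congr hR (Category.assoc _ _ _) (Category.assoc _ _ _) _ _)

/-- the action on the glued torsor, on underlying sheaves -/
noncomputable def gact₀ : (G ⊗ gP (D := D) hR).left ⟶ gSh R D := (exists_gact (D := D) hR).choose

theorem comp_gact₀ {T : Over S} (p : (yon S).obj T ⟶ (G ⊗ gP (D := D) hR).left) :
    p ≫ gact₀ hR = gactL hR (p ≫ (fst G (gP (D := D) hR)).left)
      (p ≫ (snd G (gP (D := D) hR)).left)
      (by rw [Category.assoc, Category.assoc, Over.w, Over.w]) :=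
  (exists_gact (D := D) hR).choose_spec p

/-- the action on the glued torsor -/
noncomputable def gact : G ⊗ gP (D := D) hR ⟶ gP (D := D) hR :=
  Over.homMk (gact₀ hR) (by
    refine Groth.Agent.H53.sp_hom_ext fun T p => ?_
    rw [← Category.assoc, comp_gact₀, gactL_hom, Category.assoc, Over.w])

theorem lift_gact_left {T : Over S} {β : (yon S).obj T ⟶ B} (ga : yB T β ⟶ G)
    (q : yB T β ⟶ gP (D := D) hR) :
    (lift ga q ≫ gact hR).left = gactL hR ga.left q.left ((Over.w ga).trans (Over.w q).symm) := by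
  change (lift ga q).left ≫ gact₀ hR = _
  rw [comp_gact₀]
  refine gactL_congr hR ?_ ?_ _ _
  · rw [← Over.comp_left, lift_fst]
  · rw [← Over.comp_left, lift_snd]

/-- an action from its description on points with values in schemes -/
noncomputable def actionOfPtsB {P : Over B} (act : G ⊗ P ⟶ P)
    (h1 : ∀ {T : Over S} {β : (yon S).obj T ⟶ B} (p : yB T β ⟶ P),
      lift (1 : yB T β ⟶ G) p ≫ act = p)
    (h2 : ∀ {T : Over S} {β : (yon S).obj T ⟶ B} (g h : yB T β ⟶ G) (p : yB T β ⟶ P),
      lift (g * h) p ≫ act = lift g (lift h p ≫ act) ≫ act) : AlgSp.GAction G P :=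
  actionOfPts act
    (fun {Z} p => hom_ext_pts _ _ fun T β t => by
      rw [← Category.assoc, comp_lift, MonObj.comp_one, h1])
    (fun {Z} g h p => hom_ext_pts _ _ fun T β t => by
      rw [← Category.assoc, comp_lift, MonObj.comp_mul, h2, ← Category.assoc, comp_lift,
        ← Category.assoc, comp_lift])

/-- the action on the glued torsor -/
noncomputable def gAction : AlgSp.GAction G (gP (D := D) hR) :=
  actionOfPtsB (gact hR)
    (fun {T β} p => by
      apply Over.OverMorphism.ext
      rw [lift_gact_left]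
      apply pt_injective
      rw [pt_gactL]
      exact GPt.act_one hR (pt p.left) ((pt_hom hR p.left).symm.trans (Over.w p)))
    (fun {T β} g h p => by
      apply Over.OverMorphism.ext
      rw [lift_gact_left, lift_gact_left]
      apply pt_injective
      rw [pt_gactL, pt_gactL]
      refine (GPt.act_mul hR g h (pt p.left)
        ((pt_hom hR p.left).symm.trans (Over.w p))).trans ?_
      refine GPt.act_congr hR rfl ?_ _ _
      rw [lift_gact_left, pt_gactL])

theorem exists_gΦ : ∃ a : gSh R D ⟶ X.left, ∀ ⦃T : Over S⦄ (q : (yon S).obj T ⟶ gSh R D),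
    q ≫ a = GPt.gφ hR (pt q) :=
  exists_hom_of_pts (fun T q => GPt.gφ hR (pt q)) (by
    intro T T' v q
    rw [pt_comp, GPt.gφ_pull])

/-- the equivariant map from the glued torsor, on underlying sheaves -/
noncomputable def gΦ₀ : gSh R D ⟶ X.left := (exists_gΦ (D := D) hR).choose

theorem comp_gΦ₀ {T : Over S} (q : (yon S).obj T ⟶ gSh R D) :
    q ≫ gΦ₀ hR = GPt.gφ hR (pt q) := (exists_gΦ (D := D) hR).choose_spec q

/-- the equivariant map from the glued torsor -/
noncomputable def gΦ : gP (D := D) hR ⟶ X :=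
  Over.homMk (gΦ₀ hR) (by
    refine Groth.Agent.H53.sp_hom_ext fun T q => ?_
    rw [← Category.assoc, comp_gΦ₀, GPt.gφ_hom, pt_hom])

theorem lift_fst_snd_pt {Z Z' : Over B} {T : Over S} {β : (yon S).obj T ⟶ B}
    (t : yB T β ⟶ Z ⊗ Z') : t = lift (t ≫ fst Z Z') (t ≫ snd Z Z') := by
  apply CartesianMonoidalCategory.hom_ext
  · rw [lift_fst]
  · rw [lift_snd]

theorem gact_gΦ : gact hR ≫ gΦ (D := D) hR = (G ◁ gΦ (D := D) hR) ≫ aX.act := by
  refine hom_ext_pts _ _ fun T β t => ?_
  rw [lift_fst_snd_pt t]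
  generalize t ≫ fst G (gP (D := D) hR) = ga
  generalize t ≫ snd G (gP (D := D) hR) = q
  have e : lift ga q ≫ (G ◁ gΦ (D := D) hR) = lift ga (q ≫ gΦ (D := D) hR) := by
    apply CartesianMonoidalCategory.hom_ext
    · simp only [Category.assoc, whiskerLeft_fst, lift_fst]
    · simp only [Category.assoc, whiskerLeft_snd, lift_snd, lift_snd_assoc]
  rw [← Category.assoc, ← Category.assoc, e]
  apply Over.OverMorphism.ext
  rw [lift_act_left]
  change (lift ga q ≫ gact hR).left ≫ gΦ₀ hR = _
  rw [lift_gact_left, comp_gΦ₀, pt_gactL, GPt.gφ_act]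
  refine actL_congr _ rfl ?_ _ _
  change _ = q.left ≫ gΦ₀ hR
  rw [comp_gΦ₀]

theorem gact_gπ : gact hR ≫ gπB (D := D) hR = snd G (gP (D := D) hR) ≫ gπB (D := D) hR := by
  refine hom_ext_pts _ _ fun T β t => ?_
  rw [lift_fst_snd_pt t]
  generalize t ≫ fst G (gP (D := D) hR) = ga
  generalize t ≫ snd G (gP (D := D) hR) = q
  rw [lift_snd_assoc, ← Category.assoc]
  apply Over.OverMorphism.ext
  change (lift ga q ≫ gact hR).left ≫ gπ = q.left ≫ gπ
  rw [lift_gact_left, comp_gπ, comp_gπ, pt_gactL, GPt.act_c]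

end Groth.Agent.H64.SpQ
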