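import Groth.Agent.H64.SpQ.GlueObj

set_option autoImplicit false
universe u
open CategoryTheory CategoryTheory.Limits MonoidalCategory CartesianMonoidalCategory MonObj GrpObj
  AlgebraicGeometry Opposite

/-! The object of `[X/G]` (sheaf torsors) glued from a descent datum, and its cone. -/

namespace Groth.Agent.H64.SpQ

open AlgSp AlgSt Groth.Agent.H64.Quot Groth.Agent.H84.StkConcrete Groth.Agent.H84.StkRefine

variable {S : Scheme.{u}} {B : AlgSp.Sp S} {G : Over B} [GrpObj G] {X : Over B}
  {aX : AlgSp.GAction G X} {U : Over S} {R : Sieve U}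
  {D : Stk.sieveCat R ⥤ᵇ SpQuotSt Scheme.fppfPrecoverage G aX}

variable (hR : R ∈ J S U)

theorem exists_lift_gact {T : Over S} {β : (yon S).obj T ⟶ B} (a b : yB T β ⟶ gP (D := D) hR)
    (h : a ≫ gπB (D := D) hR = b ≫ gπB (D := D) hR) :
    ∃ p : yB T β ⟶ G ⊗ gP (D := D) hR, p ≫ gact hR = a ∧ p ≫ snd G (gP (D := D) hR) = b := by
  have hc : (pt a.left).c = (pt b.left).c := by
    apply (yon S).map_injective
    rw [← comp_gπ, ← comp_gπ]
    exact congrArg CommaMorphism.left h
  obtain ⟨ga, hga, e⟩ := GPt.exists_act_eq hR (pt a.left) (pt b.left) hc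
  have hgaB : ga ≫ G.hom = β := by
    rw [hga, ← pt_hom hR b.left]
    exact Over.w b
  let gaB : yB T β ⟶ G := Over.homMk ga hgaB
  refine ⟨lift gaB b, ?_, lift_snd _ _⟩
  apply Over.OverMorphism.ext
  rw [lift_gact_left]
  apply pt_injective
  rw [pt_gactL]
  exact e

theorem lift_gact_unique {T : Over S} {β : (yon S).obj T ⟶ B}
    (p p' : yB T β ⟶ G ⊗ gP (D := D) hR) (h1 : p ≫ gact hR = p' ≫ gact hR)
    (h2 : p ≫ snd G (gP (D := D) hR) = p' ≫ snd G (gP (D := D) hR)) : p = p' := by
  apply CartesianMonoidalCategory.hom_ext _ _ ?_ h2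
  rw [lift_fst_snd_pt p, lift_fst_snd_pt p', ← h2] at h1
  generalize p ≫ fst G (gP (D := D) hR) = ga at h1 ⊢
  generalize p' ≫ fst G (gP (D := D) hR) = ga' at h1 ⊢
  generalize p ≫ snd G (gP (D := D) hR) = q at h1
  have h3 : (lift ga q ≫ gact hR).left = (lift ga' q ≫ gact hR).left :=
    congrArg CommaMorphism.left h1
  rw [lift_gact_left, lift_gact_left] at h3
  have h4 := congrArg pt h3
  rw [pt_gactL, pt_gactL] at h4
  apply Over.OverMorphism.ext
  exact GPt.act_inj hR _ _ _ _ _ h4

theorem gcart : IsPullback (gact hR) (snd G (gP (D := D) hR)) (gπB (D := D) hR)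
    (gπB (D := D) hR) :=
  isPullback_of_pts (gact_gπ hR) (fun _ _ a b h => exists_lift_gact hR a b h)
    (fun _ _ p p' h1 h2 => lift_gact_unique hR p p' h1 h2)

/-- the sieve of arrows along which a member of the descent datum has a section -/
def dsecSieve {V : Over S} (f : V ⟶ U) (hf : R f) : Sieve V where
  arrows T t := ∃ s : (yon S).obj T ⟶ (dObj R D f hf).P.left, s ≫ dρ R D f hf = (yon S).map t
  downward_closed := by
    rintro T T' t ⟨s, hs⟩ g
    exact ⟨(yon S).map g ≫ s, by rw [Category.assoc, hs, Functor.map_comp]⟩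

theorem dsecSieve_mem {V : Over S} (f : V ⟶ U) (hf : R f) :
    dsecSieve (D := D) f hf ∈ J S V := by
  refine (J S).superset_covering ?_ ((J S).pullback_stable (eqToHom (dbase R D f hf).symm)
    (secSieve_mem (dObj R D f hf)))
  rintro T t ⟨s, hs⟩
  refine ⟨s, ?_⟩
  rw [dρ, ← Category.assoc, hs, ← Functor.map_comp, Category.assoc, eqToHom_trans,
    eqToHom_refl, Category.comp_id]

/-- the sieve of arrows along which the glued torsor has a section -/
def gsecSieve : Sieve U where
  arrows T w := ∃ q : (yon S).obj T ⟶ gSh R D, q ≫ gπ = (yon S).map w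
  downward_closed := by
    rintro T T' t ⟨s, hs⟩ g
    exact ⟨(yon S).map g ≫ s, by rw [Category.assoc, hs, Functor.map_comp]⟩

include hR in
theorem gsecSieve_mem : gsecSieve (D := D) ∈ J S U := by
  refine (J S).transitive hR _ (fun V f hf => ?_)
  refine (J S).superset_covering ?_ (dsecSieve_mem (D := D) f hf)
  rintro T t ⟨s, hs⟩
  refine ⟨ptInv (GPt.ofPt f hf s), ?_⟩
  rw [comp_gπ, pt_ptInv, GPt.ofPt_c, Functor.map_comp, map_qb, hs, Functor.map_comp]

include hR in
theorem gloc : HasSecLoc Scheme.fppfPrecoverage (gπB (D := D) hR).left :=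
  loc_of_sieve_mem (gπ (R := R) (D := D)) (gsecSieve (D := D)) (gsecSieve_mem hR)
    (fun _ _ ht => ht)

/-- the glued object -/
noncomputable def gObj : SpQuotObj Scheme.fppfPrecoverage G aX where
  base := U
  b := bU (D := D) hR
  P := gP (D := D) hR
  act := gAction hR
  π := gπB (D := D) hR
  cart := gcart hR
  loc := gloc hR
  φ := gΦ hR
  eqv := gact_gΦ hR

end Groth.Agent.H64.SpQ
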