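import Groth.Agent.H64.SpQ.GlueSheaf

set_option autoImplicit false
universe u
open CategoryTheory CategoryTheory.Limits MonoidalCategory CartesianMonoidalCategory MonObj GrpObj
  AlgebraicGeometry Opposite

/-! Points of the glued torsor: points coming from the members of the descent datum. -/

namespace Groth.Agent.H64.SpQ

open AlgSp AlgSt Groth.Agent.H64.Quot

variable {S : Scheme.{u}} {B : AlgSp.Sp S} {G : Over B} [GrpObj G] {X : Over B}
  {aX : AlgSp.GAction G X} {U : Over S} {R : Sieve U}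
  {D : Stk.sieveCat R ⥤ᵇ SpQuotSt Scheme.fppfPrecoverage G aX}

/-- the point of the base of a member of the descent datum under a point of the member -/
noncomputable abbrev qb {V : Over S} (f : V ⟶ U) (hf : R f) {T : Over S}
    (q : (yon S).obj T ⟶ (dObj R D f hf).P.left) : T ⟶ V := unYon (q ≫ dρ R D f hf)

theorem map_qb {V : Over S} (f : V ⟶ U) (hf : R f) {T : Over S}
    (q : (yon S).obj T ⟶ (dObj R D f hf).P.left) :
    (yon S).map (qb f hf q) = q ≫ dρ R D f hf := map_unYon _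

theorem qb_comp {V : Over S} (f : V ⟶ U) (hf : R f) {T T' : Over S} (g : T' ⟶ T)
    (q : (yon S).obj T ⟶ (dObj R D f hf).P.left) :
    qb f hf ((yon S).map g ≫ q) = g ≫ qb f hf q := by
  unfold qb
  rw [Category.assoc]
  exact unYon_comp g _

theorem qb_τ {V V' : Over S} {f : V ⟶ U} {hf : R f} {f' : V' ⟶ U} {hf' : R f'}
    (u : V' ⟶ V) (hu : u ≫ f = f') {T : Over S} (q : (yon S).obj T ⟶ (dObj R D f' hf').P.left) :
    qb f hf (q ≫ dτ R D (hf := hf) (hf' := hf') u hu) = qb f' hf' q ≫ u := by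
  unfold qb
  rw [Category.assoc, dτ_ρ, ← Category.assoc]
  exact unYon_comp_map _ _

namespace GPt

theorem σ_eq_of_eq {T : Over S} {x x' : GPt R D T} (h : x = x') {W : Over S} (w : W ⟶ T)
    (f : W ⟶ U) (hf : R f) (e : w ≫ x.c = f) (e' : w ≫ x'.c = f) :
    x.σ w f hf e = x'.σ w f hf e' := by
  subst h
  rfl

/-- the local sections of the point defined by a point of a member of the descent datum -/
noncomputable def ofPtσ {V : Over S} (f : V ⟶ U) (hf : R f) {T : Over S}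
    (q : (yon S).obj T ⟶ (dObj R D f hf).P.left) {W : Over S} (w : W ⟶ T) (f' : W ⟶ U)
    (hf' : R f') (u : W ⟶ V) (hu : u ≫ f = f') (huq : w ≫ qb f hf q = u) :
    (yon S).obj W ⟶ (dObj R D f' hf').P.left :=
  (dτ_cart R D (hf := hf) (hf' := hf') u hu).lift ((yon S).map w ≫ q) (𝟙 _)
    (by rw [Category.id_comp, Category.assoc, ← map_qb, ← Functor.map_comp, huq])

theorem ofPtσ_τ {V : Over S} (f : V ⟶ U) (hf : R f) {T : Over S}
    (q : (yon S).obj T ⟶ (dObj R D f hf).P.left) {W : Over S} (w : W ⟶ T) (f' : W ⟶ U)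
    (hf' : R f') (u : W ⟶ V) (hu : u ≫ f = f') (huq : w ≫ qb f hf q = u) :
    ofPtσ f hf q w f' hf' u hu huq ≫ dτ R D (hf := hf) (hf' := hf') u hu = (yon S).map w ≫ q :=
  IsPullback.lift_fst _ _ _ _

theorem ofPtσ_ρ {V : Over S} (f : V ⟶ U) (hf : R f) {T : Over S}
    (q : (yon S).obj T ⟶ (dObj R D f hf).P.left) {W : Over S} (w : W ⟶ T) (f' : W ⟶ U)
    (hf' : R f') (u : W ⟶ V) (hu : u ≫ f = f') (huq : w ≫ qb f hf q = u) :
    ofPtσ f hf q w f' hf' u hu huq ≫ dρ R D f' hf' = 𝟙 _ :=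
  IsPullback.lift_snd _ _ _ _

theorem ofPtσ_unique {V : Over S} (f : V ⟶ U) (hf : R f) {T : Over S}
    (q : (yon S).obj T ⟶ (dObj R D f hf).P.left) {W : Over S} (w : W ⟶ T) (f' : W ⟶ U)
    (hf' : R f') (u : W ⟶ V) (hu : u ≫ f = f') (huq : w ≫ qb f hf q = u)
    (s : (yon S).obj W ⟶ (dObj R D f' hf').P.left)
    (h1 : s ≫ dτ R D (hf := hf) (hf' := hf') u hu = (yon S).map w ≫ q)
    (h2 : s ≫ dρ R D f' hf' = 𝟙 _) :
    s = ofPtσ f hf q w f' hf' u hu huq :=
  sec_ext R D u hu _ _ (h1.trans (ofPtσ_τ f hf q w f' hf' u hu huq).symm)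
    (h2.trans (ofPtσ_ρ f hf q w f' hf' u hu huq).symm)

/-- the point of the glued torsor defined by a point of a member of the descent datum -/
noncomputable def ofPt {V : Over S} (f : V ⟶ U) (hf : R f) {T : Over S}
    (q : (yon S).obj T ⟶ (dObj R D f hf).P.left) : GPt R D T where
  c := qb f hf q ≫ f
  σ W w f' hf' e := ofPtσ f hf q w f' hf' (w ≫ qb f hf q)
    (by rw [← e, Category.assoc]) rfl
  sec W w f' hf' e := ofPtσ_ρ _ _ _ _ _ _ _ _ _
  nat W W' v w f' hf' e f'' hf'' hu := by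
    have hu1 : (w ≫ qb f hf q) ≫ f = f' := by rw [← e, Category.assoc]
    have hu2 : (v ≫ w ≫ qb f hf q) ≫ f = f'' := by rw [Category.assoc, hu1, hu]
    have hu3 : ((v ≫ w) ≫ qb f hf q) ≫ f = f'' := by rw [← hu2]; simp
    apply sec_ext R D (w ≫ qb f hf q) hu1
    · have h1 : dτ R D (hf := hf') (hf' := hf'') v hu ≫ dτ R D (hf := hf) (hf' := hf') _ hu1 =
          dτ R D (hf := hf) (hf' := hf'') ((v ≫ w) ≫ qb f hf q) hu3 :=
        (dτ_comp R D _ hu1 v hu hu2).symm.trans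
          (dτ_congr R D (Category.assoc v w _).symm hu2 hu3)
      rw [Category.assoc, h1, ofPtσ_τ, Category.assoc, ofPtσ_τ, Functor.map_comp,
        Category.assoc]
    · rw [Category.assoc, dτ_ρ, ← Category.assoc, ofPtσ_ρ, Category.assoc, ofPtσ_ρ,
        Category.id_comp, Category.comp_id]

@[simp] theorem ofPt_c {V : Over S} (f : V ⟶ U) (hf : R f) {T : Over S}
    (q : (yon S).obj T ⟶ (dObj R D f hf).P.left) : (ofPt f hf q).c = qb f hf q ≫ f := rfl

theorem ofPt_σ_τ {V : Over S} (f : V ⟶ U) (hf : R f) {T : Over S}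
    (q : (yon S).obj T ⟶ (dObj R D f hf).P.left)
    {W : Over S} (w : W ⟶ T) (f' : W ⟶ U) (hf' : R f') (e : w ≫ (ofPt f hf q).c = f')
    (u : W ⟶ V) (hu : u ≫ f = f') (huq : w ≫ qb f hf q = u) :
    (ofPt f hf q).σ w f' hf' e ≫ dτ R D (hf := hf) (hf' := hf') u hu = (yon S).map w ≫ q := by
  subst huq
  exact ofPtσ_τ f hf q w f' hf' _ hu rfl

theorem ofPt_pull {V : Over S} (f : V ⟶ U) (hf : R f) {T T' : Over S} (g : T' ⟶ T)
    (q : (yon S).obj T ⟶ (dObj R D f hf).P.left) :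
    (ofPt f hf q).pull g = ofPt f hf ((yon S).map g ≫ q) := by
  apply ext' (by rw [pull_c, ofPt_c, ofPt_c, qb_comp, Category.assoc])
  intro W w f' hf' e
  rw [pull_σ]
  refine ofPtσ_unique f hf ((yon S).map g ≫ q) w f' hf' _ _ rfl _ ?_ ?_
  · rw [ofPt_σ_τ f hf q (w ≫ g) f' hf' _ _ _ (by rw [qb_comp, Category.assoc])]
    rw [Functor.map_comp, Category.assoc]
  · exact (ofPt f hf q).sec _ _ _ _

theorem ofPt_inj {V : Over S} (f : V ⟶ U) (hf : R f) {T : Over S}
    (q q' : (yon S).obj T ⟶ (dObj R D f hf).P.left) (h : ofPt f hf q = ofPt f hf q')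
    (hρ : q ≫ dρ R D f hf = q' ≫ dρ R D f hf) : q = q' := by
  have hqb : qb f hf q = qb f hf q' := by
    unfold qb
    rw [hρ]
  have hf' : R (qb f hf q ≫ f) := R.downward_closed hf _
  have e : 𝟙 T ≫ (ofPt f hf q).c = qb f hf q ≫ f := by simp
  have e' : 𝟙 T ≫ (ofPt f hf q').c = qb f hf q ≫ f := by rw [← h]; exact e
  have h1 := ofPt_σ_τ f hf q (𝟙 T) _ hf' e (qb f hf q) rfl (Category.id_comp _)
  have h2 := ofPt_σ_τ f hf q' (𝟙 T) _ hf' e' (qb f hf q) rfl
    (by rw [Category.id_comp, hqb])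
  have h3 := σ_eq_of_eq h (𝟙 T) _ hf' e e'
  rw [CategoryTheory.Functor.map_id, Category.id_comp] at h1 h2
  rw [← h1, ← h2, h3]

theorem exists_ofPt {V : Over S} (f : V ⟶ U) (hf : R f) {T : Over S} (x : GPt R D T)
    (b : T ⟶ V) (hb : x.c = b ≫ f) :
    ∃ q : (yon S).obj T ⟶ (dObj R D f hf).P.left,
      ofPt f hf q = x ∧ q ≫ dρ R D f hf = (yon S).map b := by
  have hbf : R (b ≫ f) := R.downward_closed hf b
  have e0 : 𝟙 T ≫ x.c = b ≫ f := by rw [Category.id_comp, hb]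
  let q : (yon S).obj T ⟶ (dObj R D f hf).P.left :=
    x.σ (𝟙 T) (b ≫ f) hbf e0 ≫ dτ R D (hf := hf) (hf' := hbf) b rfl
  have hqρ : q ≫ dρ R D f hf = (yon S).map b := by
    change (_ ≫ _) ≫ _ = _
    rw [Category.assoc, dτ_ρ, ← Category.assoc, x.sec, Category.id_comp]
  have hqb : qb f hf q = b := by
    unfold qb
    rw [hqρ, unYon_map]
  refine ⟨q, ?_, hqρ⟩
  symm
  have hc : x.c = (ofPt f hf q).c := by
    rw [ofPt_c, hqb, hb]
  apply ext' hc
  intro W w f' hf' e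
  refine ofPtσ_unique f hf q w f' hf' _ _ rfl _ ?_ ?_
  · have hw : w ≫ b ≫ f = f' := by rw [← hb]; exact e
    have hwb : (w ≫ b) ≫ f = f' := by rw [Category.assoc]; exact hw
    have h1 : dτ R D (hf := hf) (hf' := hf') (w ≫ qb f hf q)
        (by rw [hqb]; exact hwb) =
        dτ R D (hf := hbf) (hf' := hf') w hw ≫ dτ R D (hf := hf) (hf' := hbf) b rfl :=
      (dτ_congr R D (by rw [hqb]) _ hwb).trans (dτ_comp R D b rfl w hw hwb)
    have h2 := x.nat w (𝟙 T) (b ≫ f) hbf e0 f' hf' hw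
    have h3 : x.σ (w ≫ 𝟙 T) f' hf' (by rw [Category.comp_id]; exact e) = x.σ w f' hf' e :=
      x.σ_congr (Category.comp_id _) _ _ _ _
    rw [h3] at h2
    rw [h1, ← Category.assoc, h2, Category.assoc]
  · exact x.sec _ _ _ _

theorem ofPt_τ {V V' : Over S} {f : V ⟶ U} {hf : R f} {f' : V' ⟶ U} {hf' : R f'}
    (u : V' ⟶ V) (hu : u ≫ f = f') {T : Over S}
    (q : (yon S).obj T ⟶ (dObj R D f' hf').P.left) :
    ofPt f hf (q ≫ dτ R D (hf := hf) (hf' := hf') u hu) = ofPt f' hf' q := by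
  have hc : (ofPt f hf (q ≫ dτ R D (hf := hf) (hf' := hf') u hu)).c =
      (ofPt f' hf' q).c := by
    rw [ofPt_c, ofPt_c, qb_τ, Category.assoc, hu]
  apply ext' hc
  intro W w f'' hf'' e
  have hu'' : (w ≫ qb f' hf' q) ≫ f' = f'' := by
    rw [← e, ofPt_c, qb_τ]
    simp only [Category.assoc]
    rw [hu]
  refine ofPtσ_unique f' hf' q w f'' hf'' _ hu'' rfl _ ?_ ?_
  · apply sec_ext R D u hu
    · have huu : ((w ≫ qb f' hf' q) ≫ u) ≫ f = f'' := by rw [Category.assoc, hu, hu'']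
      rw [Category.assoc, ← dτ_comp R D u hu _ hu'' huu,
        ofPt_σ_τ f hf _ w f'' hf'' e _ huu (by rw [qb_τ, Category.assoc]),
        Category.assoc]
    · rw [Category.assoc, dτ_ρ, ← Category.assoc, GPt.sec, Category.id_comp,
        ← map_qb, qb_comp]
  · exact GPt.sec _ _ _ _ _

end GPt

end Groth.Agent.H64.SpQ
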