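import Groth.Agent.H64.SpQ.PtsB
import Groth.Agent.H84.StkConcrete

/-!
# Morphisms of `[X/G]` (sheaf torsors, fppf) glue along covering sieves
-/

set_option autoImplicit false
universe u
open CategoryTheory CategoryTheory.Limits MonoidalCategory CartesianMonoidalCategory MonObj GrpObj
  AlgebraicGeometry Opposite

namespace Groth.Agent.H64.SpQ

open AlgSp AlgSt Groth.Agent.H84.StkConcrete

variable {S : Scheme.{u}} {B : AlgSp.Sp S} {G : Over B} [GrpObj G] {X : Over B}
  {aX : AlgSp.GAction G X}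

theorem base_eq_of_isHomLift' {A A' : SpQuotObj Scheme.fppfPrecoverage G aX} (m : A ⟶ A') {U : Over S}
    (f : A.base ⟶ U) (hB : A'.base = U) (h : (SpQuotSt Scheme.fppfPrecoverage G aX).p.IsHomLift f m) :
    m.base = f ≫ eqToHom hB.symm := by
  subst hB
  rw [eqToHom_refl, Category.comp_id]
  exact base_eq_of_isHomLift m f h

theorem isHomLift_of_base_eq' {A A' : SpQuotObj Scheme.fppfPrecoverage G aX} (m : A ⟶ A') {U : Over S}
    (f : A.base ⟶ U) (hB : A'.base = U) (h : m.base = f ≫ eqToHom hB.symm) :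
    (SpQuotSt Scheme.fppfPrecoverage G aX).p.IsHomLift f m := by
  subst hB
  rw [eqToHom_refl, Category.comp_id] at h
  exact isHomLift_of_base_eq m f h

section sec

variable (t : SpQuotObj Scheme.fppfPrecoverage G aX) {W : Over S} {β : (yon S).obj W ⟶ B} (g : yB W β ⟶ t.P)

/-- the morphism to the base defined by a point of the torsor -/
noncomputable abbrev fOf : W ⟶ t.base := unYon (g ≫ t.π).left

theorem map_fOf : (yon S).map (fOf t g) = (g ≫ t.π).left := map_unYon _

theorem fOf_b : (yon S).map (fOf t g) ≫ t.b = β := by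
  rw [map_fOf]
  exact Over.w (g ≫ t.π)

theorem fOf_comp {W' : Over S} (v : W' ⟶ W) : fOf t (rB v β ≫ g) = v ≫ fOf t g := by
  have h : ((rB v β ≫ g) ≫ t.π).left = (yon S).map v ≫ (g ≫ t.π).left := by
    rw [Category.assoc]
    rfl
  unfold fOf
  rw [h]
  exact unYon_comp v _

theorem fOf_idB {β' : (yon S).obj W ⟶ B} (e : β = β') : fOf t (idB e ≫ g) = fOf t g := by
  subst e
  congr 2

theorem fOf_top {s : SpQuotObj Scheme.fppfPrecoverage G aX} (ψ : s ⟶ t) (σ : yB W β ⟶ s.P) :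
    fOf t (σ ≫ ψ.top) = fOf s σ ≫ ψ.base := by
  unfold fOf
  rw [Category.assoc, (hom_cart ψ).w, ← Category.assoc]
  exact unYon_comp_map _ _

/-- the section of the pulled back torsor defined by a point of the torsor -/
noncomputable def pullSec : yB W β ⟶ (pullObj t (fOf t g)).P :=
  pullback.lift (idB (fOf_b t g)) g (by
    apply Over.OverMorphism.ext
    change 𝟙 _ ≫ (yon S).map (fOf t g) = (g ≫ t.π).left
    rw [Category.id_comp, map_fOf])

theorem pullSec_π : pullSec t g ≫ (pullObj t (fOf t g)).π = idB (fOf_b t g) :=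
  pullback.lift_fst _ _ _

theorem pullSec_top : pullSec t g ≫ (pullHom t (fOf t g)).top = g := pullback.lift_snd _ _ _

theorem isHomLift_pullHom {T : Over S} (f : T ⟶ t.base) :
    (SpQuotSt Scheme.fppfPrecoverage G aX).p.IsHomLift f (pullHom t f) :=
  isHomLift_of_base_eq (pullHom t f) f rfl

end sec

theorem top_ext_of_local {t t' : SpQuotObj Scheme.fppfPrecoverage G aX} (R : Sieve t.base) (hR : R ∈ J S t.base)
    (a b : t ⟶ t')
    (hloc : ∀ ⦃V : Over S⦄ (f : V ⟶ t.base), R f → ∀ (s : SpQuotObj Scheme.fppfPrecoverage G aX) (ψ : s ⟶ t),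
      (SpQuotSt Scheme.fppfPrecoverage G aX).p.IsHomLift f ψ → ψ ≫ a = ψ ≫ b) : a.top = b.top := by
  refine hom_ext_of_sieveB t.π R hR _ _ fun W β g hg => ?_
  have h1 := hloc (fOf t g) hg (pullObj t _) (pullHom t _) (isHomLift_pullHom t _)
  have h2 : (pullHom t (fOf t g)).top ≫ a.top = (pullHom t (fOf t g)).top ≫ b.top :=
    congrArg SpQuotObj.Hom.top h1
  rw [← pullSec_top t g, Category.assoc, h2, Category.assoc]

theorem resSieve_faithful {U : Over S} (R : Sieve U) (hR : R ∈ J S U) :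
    (Stk.resSieve R (SpQuotSt Scheme.fppfPrecoverage G aX)).Faithful := by
  refine faithful_of_hom_ext isFibGrpd_spQuotSt R (fun t t' ht ht' a b ha hb hloc => ?_)
  subst ht
  apply SpQuotObj.hom_ext
  · rw [base_eq_of_isHomLift' a (𝟙 _) ht' ha, base_eq_of_isHomLift' b (𝟙 _) ht' hb]
  · exact top_ext_of_local R hR a b hloc

section glueHom

variable {t t' : SpQuotObj Scheme.fppfPrecoverage G aX} (ht' : t'.base = t.base) (R : Sieve t.base)
  (hR : R ∈ J S t.base)
  (m : ∀ ⦃V : Over S⦄ (f : V ⟶ t.base), R f → ∀ (s : SpQuotObj Scheme.fppfPrecoverage G aX) (ψ : s ⟶ t),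
    (SpQuotSt Scheme.fppfPrecoverage G aX).p.IsHomLift f ψ → (s ⟶ t'))
  (hm : ∀ ⦃V : Over S⦄ (f : V ⟶ t.base) (hf : R f) (s : SpQuotObj Scheme.fppfPrecoverage G aX) (ψ : s ⟶ t)
    (hψ : (SpQuotSt Scheme.fppfPrecoverage G aX).p.IsHomLift f ψ), (SpQuotSt Scheme.fppfPrecoverage G aX).p.IsHomLift f (m f hf s ψ hψ))
  (hcompat : ∀ ⦃V V' : Over S⦄ (f : V ⟶ t.base) (hf : R f) (f' : V' ⟶ t.base) (hf' : R f')
    (u : V' ⟶ V) (_ : u ≫ f = f') (s s' : SpQuotObj Scheme.fppfPrecoverage G aX)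
    (ψ : s ⟶ t) (hψ : (SpQuotSt Scheme.fppfPrecoverage G aX).p.IsHomLift f ψ) (ψ' : s' ⟶ t)
    (hψ' : (SpQuotSt Scheme.fppfPrecoverage G aX).p.IsHomLift f' ψ')
    (h : s' ⟶ s), (SpQuotSt Scheme.fppfPrecoverage G aX).p.IsHomLift u h → h ≫ ψ = ψ' →
      m f' hf' s' ψ' hψ' = h ≫ m f hf s ψ hψ)

/-- the canonical local morphism -/
noncomputable def mg {W : Over S} {β : (yon S).obj W ⟶ B} (g : yB W β ⟶ t.P) (hg : R (fOf t g)) :
    pullObj t (fOf t g) ⟶ t' :=
  m (fOf t g) hg (pullObj t (fOf t g)) (pullHom t (fOf t g)) (isHomLift_pullHom t _)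

/-- the local values of the glued morphism -/
noncomputable def xg {W : Over S} {β : (yon S).obj W ⟶ B} (g : yB W β ⟶ t.P) (hg : R (fOf t g)) :
    yB W β ⟶ t'.P :=
  pullSec t g ≫ (mg R m g hg).top

include hcompat in
/-- the key comparison: the local value at `σ ≫ ψ.top` computed through any `(s, ψ)` -/
theorem xg_eq {V : Over S} (f : V ⟶ t.base) (hf : R f) (s : SpQuotObj Scheme.fppfPrecoverage G aX) (ψ : s ⟶ t)
    (hψ : (SpQuotSt Scheme.fppfPrecoverage G aX).p.IsHomLift f ψ) {W : Over S} {β : (yon S).obj W ⟶ B}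
    (σ : yB W β ⟶ s.P) (hg : R (fOf t (σ ≫ ψ.top))) :
    xg R m (σ ≫ ψ.top) hg = σ ≫ (m f hf s ψ hψ).top := by
  have hV : s.base = V := IsHomLift.domain_eq (SpQuotSt Scheme.fppfPrecoverage G aX).p f ψ
  subst hV
  have hb : ψ.base = f := base_eq_of_isHomLift ψ f hψ
  set g := σ ≫ ψ.top with hgdef
  have hu : fOf s σ ≫ f = fOf t g := by
    rw [hgdef, fOf_top, hb]
  obtain ⟨h, hh1, hh2⟩ := exists_lift_hom ψ (C := pullObj t (fOf t g)) (fOf s σ)
    (pullHom t (fOf t g)) (by rw [pullHom_base, hb]; exact hu.symm)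
  have hc := hcompat f hf (fOf t g) hg (fOf s σ) hu s (pullObj t (fOf t g)) ψ hψ
    (pullHom t (fOf t g)) (isHomLift_pullHom t _) h (isHomLift_of_base_eq h _ hh1) hh2
  have hsec : pullSec t g ≫ h.top = σ := by
    apply ψ.cart.hom_ext
    · rw [Category.assoc, ← SpQuotObj.comp_top, hh2, pullSec_top]
    · rw [Category.assoc, (hom_cart h).w, ← Category.assoc, pullSec_π]
      apply Over.OverMorphism.ext
      change 𝟙 _ ≫ (yon S).map h.base = (σ ≫ s.π).left
      rw [Category.id_comp, hh1]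
      exact map_fOf s σ
  change pullSec t g ≫ (m (fOf t g) hg (pullObj t (fOf t g)) (pullHom t (fOf t g))
    (isHomLift_pullHom t _)).top = _
  rw [hc, SpQuotObj.comp_top, ← Category.assoc, hsec]

include hcompat in
theorem xg_self {W : Over S} {β : (yon S).obj W ⟶ B} (g : yB W β ⟶ t.P) (hg : R (fOf t g))
    {W' : Over S} (v : W' ⟶ W) (hg' : R (fOf t (rB v β ≫ g))) :
    xg R m (rB v β ≫ g) hg' = rB v β ≫ xg R m g hg := by
  have e : rB v β ≫ g = (rB v β ≫ pullSec t g) ≫ (pullHom t (fOf t g)).top := by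
    rw [Category.assoc, pullSec_top]
  have h1 := xg_eq R m hcompat (fOf t g) hg (pullObj t (fOf t g)) (pullHom t (fOf t g))
    (isHomLift_pullHom t _) (rB v β ≫ pullSec t g) (by rw [← e]; exact hg')
  have h2 : xg R m (rB v β ≫ g) hg' =
      xg R m ((rB v β ≫ pullSec t g) ≫ (pullHom t (fOf t g)).top)
      (by rw [← e]; exact hg') := by
    congr 1
  rw [h2, h1, Category.assoc]
  rfl

include hR hcompat in
/-- the glued map of total spaces -/
theorem exists_top : ∃ a₀ : t.P ⟶ t'.P, ∀ ⦃V : Over S⦄ (f : V ⟶ t.base) (hf : R f)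
    (s : SpQuotObj Scheme.fppfPrecoverage G aX) (ψ : s ⟶ t) (hψ : (SpQuotSt Scheme.fppfPrecoverage G aX).p.IsHomLift f ψ),
    ψ.top ≫ a₀ = (m f hf s ψ hψ).top := by
  obtain ⟨a₀, ha₀⟩ := exists_desc_of_sieveB (Q := t'.P) t.π R hR
    (fun W β g hg => xg R m g hg) (by
      intro W W' v β g hg
      exact xg_self R m hcompat g hg v _)
  refine ⟨a₀, fun V f hf s ψ hψ => ?_⟩
  have hV : s.base = V := IsHomLift.domain_eq (SpQuotSt Scheme.fppfPrecoverage G aX).p f ψ
  subst hV
  have hb : ψ.base = f := base_eq_of_isHomLift ψ f hψ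
  refine hom_ext_pts _ _ fun W β σ => ?_
  have hg : R (fOf t (σ ≫ ψ.top)) := by
    rw [fOf_top, hb]
    exact R.downward_closed hf _
  rw [← Category.assoc, ha₀ β (σ ≫ ψ.top) hg]
  exact xg_eq R m hcompat f hf s ψ hψ σ hg

include ht' hR hm hcompat in
/-- morphisms glue -/
theorem exists_glue_hom : ∃ a : t ⟶ t',
    (SpQuotSt Scheme.fppfPrecoverage G aX).p.IsHomLift (𝟙 t.base) a ∧
    ∀ ⦃V : Over S⦄ (f : V ⟶ t.base) (hf : R f) (s : SpQuotObj Scheme.fppfPrecoverage G aX)
      (ψ : s ⟶ t) (hψ : (SpQuotSt Scheme.fppfPrecoverage G aX).p.IsHomLift f ψ),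
      ψ ≫ a = m f hf s ψ hψ := by
  obtain ⟨a₀, hF⟩ := exists_top R hR m hcompat
  -- local description
  have hloc : ∀ ⦃W : Over S⦄ (β : (yon S).obj W ⟶ B) (g : yB W β ⟶ t.P) (hg : R (fOf t g)),
      g ≫ a₀ = pullSec t g ≫ (mg R m g hg).top := by
    intro W β g hg
    have h1 := hF (fOf t g) hg (pullObj t (fOf t g)) (pullHom t (fOf t g))
      (isHomLift_pullHom t _)
    have h2 : (mg R m g hg).top = (pullHom t (fOf t g)).top ≫ a₀ := h1.symm
    rw [h2, ← Category.assoc, pullSec_top]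
  have hμb : ∀ ⦃W : Over S⦄ (β : (yon S).obj W ⟶ B) (g : yB W β ⟶ t.P) (hg : R (fOf t g)),
      (mg R m g hg).base = fOf t g ≫ eqToHom ht'.symm := fun W β g hg =>
    base_eq_of_isHomLift' (mg R m g hg) (fOf t g) ht' (hm _ hg _ _ _)
  -- the sections of `B` agree
  have hwb : (yon S).map (eqToHom ht'.symm) ≫ t'.b = t.b := by
    refine Groth.Agent.H53.yon_hom_ext_of_sieve _ _ R hR fun V f hf => ?_
    have h1 := (m f hf (pullObj t f) (pullHom t f) (isHomLift_pullHom t f)).wb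
    have h2 := base_eq_of_isHomLift' (m f hf (pullObj t f) (pullHom t f)
      (isHomLift_pullHom t f)) f ht' (hm _ hf _ _ _)
    rw [h2, Functor.map_comp, Category.assoc] at h1
    exact h1
  let bm : bs t ⟶ bs t' := bHom (eqToHom ht'.symm) hwb
  have P1 : a₀ ≫ t'.π = t.π ≫ bm := by
    refine hom_ext_of_sieveB t.π R hR _ _ fun W β g hg => ?_
    rw [← Category.assoc, hloc β g hg, Category.assoc, (hom_cart (mg R m g hg)).w,
      ← Category.assoc, pullSec_π]
    apply Over.OverMorphism.ext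
    change 𝟙 _ ≫ (yon S).map (mg R m g hg).base =
      (g ≫ t.π).left ≫ (yon S).map (eqToHom ht'.symm)
    rw [Category.id_comp, hμb β g hg]
    refine ((yon S).map_comp (fOf t g) (eqToHom ht'.symm)).trans ?_
    rw [map_fOf]
  have P3 : a₀ ≫ t'.φ = t.φ := by
    refine hom_ext_of_sieveB t.π R hR _ _ fun W β g hg => ?_
    rw [← Category.assoc, hloc β g hg, Category.assoc, (mg R m g hg).wφ,
      ← (pullHom t (fOf t g)).wφ, ← Category.assoc, pullSec_top]
  have P2 : t.act.act ≫ a₀ = (G ◁ a₀) ≫ t'.act.act := by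
    apply eqv_of_pt
    refine hom_ext_of_sieveB (snd G t.P ≫ t.π) R hR _ _ fun W β q hq => ?_
    have hg : R (fOf t (q ≫ snd G t.P)) := by
      have := (smallB_iff _ R q).1 hq
      rw [← Category.assoc] at this
      exact this
    set g := q ≫ snd G t.P with hgdef
    set ga := q ≫ fst G t.P with hgadef
    have e1 : q ≫ actPt t (fst G t.P) (snd G t.P) = actPt t ga g := actPt_comp t q _ _
    have e2 : q ≫ actPt t' (fst G t.P) (snd G t.P ≫ a₀) = actPt t' ga (g ≫ a₀) := by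
      rw [actPt_comp, hgdef, Category.assoc]
    have e3 : actPt t ga g = actPt (pullObj t (fOf t g)) ga (pullSec t g) ≫
        (pullHom t (fOf t g)).top := by
      rw [eqv_pt _ (pullHom t (fOf t g)).eqv, pullSec_top]
    rw [← Category.assoc, e1, e2, e3, Category.assoc,
      hF (fOf t g) hg (pullObj t (fOf t g)) (pullHom t (fOf t g)) (isHomLift_pullHom t _),
      eqv_pt _ (m (fOf t g) hg (pullObj t (fOf t g)) (pullHom t (fOf t g))
        (isHomLift_pullHom t _)).eqv, hloc β g hg]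
    rfl
  let a : t ⟶ t' :=
    { base := eqToHom ht'.symm
      wb := hwb
      top := a₀
      eqv := P2
      cart := cart_of_eqv bm a₀ P1 P2
      wφ := P3 }
  refine ⟨a, isHomLift_of_base_eq' a (𝟙 _) ht' (Category.id_comp _).symm, ?_⟩
  intro V f hf s ψ hψ
  have hV : s.base = V := IsHomLift.domain_eq (SpQuotSt Scheme.fppfPrecoverage G aX).p f ψ
  subst hV
  apply SpQuotObj.hom_ext
  · rw [base_eq_of_isHomLift' _ f ht' (hm f hf s ψ hψ), SpQuotObj.comp_base,
      base_eq_of_isHomLift ψ f hψ]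
  · exact hF f hf s ψ hψ

end glueHom

theorem resSieve_full {U : Over S} (R : Sieve U) (hR : R ∈ J S U) :
    (Stk.resSieve R (SpQuotSt Scheme.fppfPrecoverage G aX)).Full := by
  refine full_of_glue_hom isFibGrpd_spQuotSt R (fun t t' ht ht' m hm hcompat => ?_)
  subst ht
  exact exists_glue_hom ht' R hR m hm hcompat

theorem isPrestackFor_spQuotSt {U : Over S} (R : Sieve U) (hR : R ∈ J S U) :
    Stk.IsPrestackFor R (SpQuotSt Scheme.fppfPrecoverage G aX) :=
  ⟨resSieve_full R hR, resSieve_faithful R hR⟩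

end Groth.Agent.H64.SpQ
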