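import Groth.Agent.H64.SpQ.TorsAlg
import Groth.Agent.H64.SpQ.FpRep5
import Groth.Agent.H64.Psh.SieveCover
import Groth.Agent.H64.Psh.PTools

/-!
# The structure morphism of a sheaf torsor inherits the fppf-local properties of the group

`prop_π`: for a property `P` of morphisms of algebraic spaces which is stable under base change
and fppf local on the base, if `G ⟶ B` has `P` then so does the structure morphism `P ⟶ h_T` of
every fppf-locally trivial sheaf torsor.  `repByAlgSpWith_spQuotMap`: `X ⟶ [X/G]` is
representable by algebraic spaces with property `P`.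
-/

set_option autoImplicit false
universe u
open CategoryTheory CategoryTheory.Limits MonoidalCategory CartesianMonoidalCategory MonObj GrpObj
  AlgebraicGeometry Opposite

namespace Groth.Agent.H64.SpQ

open AlgSp AlgSt Groth.Agent.H64.PTh

variable {S : Scheme.{u}} {B : AlgSp.Sp S} {G : Over B} [GrpObj G]
  {X : Over B} {aX : AlgSp.GAction G X}

theorem prop_π {P : MorphismProperty (AlgSp.Sp S)} (hPb : StableBC P)
    (hloc : IsLocalOnBase IsFppfCover P) (hB : IsAlgSpace B) (hG : IsAlgSpace G.left)
    (hP : P G.hom) (A : SpQuotObj Scheme.fppfPrecoverage G aX) : P A.π.left := by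
  obtain ⟨I, V, h, hR, hcov⟩ := exists_fppf_family_of_mem_J (secSieve A) (secSieve_mem A)
  choose s hs using hR
  let T' : I → Over B := fun i => Over.mk ((AlgSp.yon S).map (h i) ≫ A.b)
  have hsB : ∀ i, s i ≫ A.P.hom = (T' i).hom := fun i => by
    have h1 : A.π.left ≫ A.b = A.P.hom := Over.w A.π
    change s i ≫ A.P.hom = (AlgSp.yon S).map (h i) ≫ A.b
    rw [← h1, ← Category.assoc, hs]
  let σ : ∀ i, T' i ⟶ A.P := fun i => Over.homMk (s i) (hsB i)
  have hpb' : ∀ i, IsPullback ((G ◁ σ i) ≫ A.act.act).left (snd G (T' i)).left A.π.left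
      ((AlgSp.yon S).map (h i)) := fun i => by
    have hpb := (isPullback_triv A (σ i)).map (Over.forget B)
    have hσπ : (σ i ≫ A.π).left = (AlgSp.yon S).map (h i) := hs i
    rw [← hσπ]; exact hpb
  have hT' : ∀ i, IsAlgSpace (T' i).left := fun i => IsAlgSpace.yon_obj _
  have hGT : ∀ i, IsAlgSpace (G ⊗ T' i).left := fun i => isAlgSpace_tensor_left hB hG (T' i) (hT' i)
  refine (hloc (fun i => (AlgSp.yon S).obj (V i)) (fun i => (AlgSp.yon S).map (h i))
    (IsAlgSpace.yon_obj _) (fun i => IsAlgSpace.yon_obj _) hcov A.π.left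
    (isAlgSpace_torsor hB hG A) (fun i => (G ⊗ T' i).left) (fun i => (snd G (T' i)).left)
    (fun i => ((G ◁ σ i) ≫ A.act.act).left) hGT hpb').mpr (fun i => ?_)
  exact hPb hG hB (hGT i) (hT' i) G.hom (T' i).hom (snd G (T' i)).left (fst G (T' i)).left
    (isPullback_left_fst_snd (T' i)) hP

/-- `X ⟶ [X/G]` is representable by algebraic spaces (the torsors) and has every property of
`G ⟶ B` which is stable under base change and fppf local on the target -/
theorem repByAlgSpWith_spQuotMap {P : MorphismProperty (AlgSp.Sp S)} (hPb : StableBC P)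
    (hloc : IsLocalOnBase IsFppfCover P) (hB : IsAlgSpace B) (hG : IsAlgSpace G.left)
    (hP : P G.hom) :
    RepByAlgSpWith P (spQuotMap Scheme.fppfPrecoverage G aX) := by
  intro U y
  have hA : IsAlgSpace (univ y).P.left := isAlgSpace_torsor hB hG (univ y)
  refine ⟨⟨(univ y).P.left, hA⟩, repFun y, isEquivOver_repFun y, ?_⟩
  have h := spMapOfOver_repFun y
  refine h ▸ ?_
  have hπ : P (univ y).π.left := prop_π hPb hloc hB hG hP (univ y)
  have : IsIso ((AlgSp.yon S).map (ub y)) := inferInstance
  have sq : IsPullback (𝟙 (univ y).P.left) ((univ y).π.left ≫ (AlgSp.yon S).map (inv (ub y)))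
      (univ y).π.left ((AlgSp.yon S).map (ub y)) :=
    IsPullback.of_horiz_isIso ⟨by
      rw [Category.id_comp, Category.assoc, ← Functor.map_comp, IsIso.inv_hom_id,
        CategoryTheory.Functor.map_id]
      exact (Category.comp_id _).symm⟩
  exact hPb hA (IsAlgSpace.yon_obj _) hA (IsAlgSpace.yon_obj _) _ _ _ _ sq hπ

end Groth.Agent.H64.SpQ
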