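import Groth.Agent.H53.Basic
import Groth.Agent.H51.SpOpen
import Groth.Prelude.Def_AlgSt6

/-!
# Points of sheaves with values in representables: extension, gluing and descent along a sieve
-/

set_option autoImplicit false
universe u
open CategoryTheory CategoryTheory.Limits AlgebraicGeometry Opposite

namespace Groth.Agent.H64.SpQ

open AlgSp AlgSt

variable {S : Scheme.{u}}

/-- maps from a representable into a sheaf glue along a covering sieve -/
theorem exists_glue_yon {F : Sp S} {T : Over S} (R : Sieve T) (hR : R ∈ J S T)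
    (x : ∀ ⦃W : Over S⦄ (w : W ⟶ T), R w → ((yon S).obj W ⟶ F))
    (hx : ∀ ⦃W W' : Over S⦄ (w : W ⟶ T) (hw : R w) (v : W' ⟶ W),
      x (v ≫ w) (R.downward_closed hw v) = (yon S).map v ≫ x w hw) :
    ∃ a : (yon S).obj T ⟶ F, ∀ ⦃W : Over S⦄ (w : W ⟶ T) (hw : R w),
      (yon S).map w ≫ a = x w hw := by
  have hF : Presieve.IsSheaf (J S) F.obj := (isSheaf_iff_isSheaf_of_type _ _).1 F.property
  let fam : Presieve.FamilyOfElements F.obj R.arrows :=
    fun W w hw => (J S).uliftYonedaEquiv (x w hw)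
  have hfam : fam.Compatible := by
    rw [Presieve.compatible_iff_sieveCompatible]
    intro W W' w v hw
    change (J S).uliftYonedaEquiv (x (v ≫ w) _) = F.obj.map v.op ((J S).uliftYonedaEquiv (x w hw))
    rw [(J S).uliftYonedaEquiv_naturality, hx w hw v]
  obtain ⟨t, ht, -⟩ := hF R hR fam hfam
  refine ⟨(J S).uliftYonedaEquiv.symm t, fun W w hw => ?_⟩
  apply (J S).uliftYonedaEquiv.injective
  rw [← (J S).uliftYonedaEquiv_naturality, Equiv.apply_symm_apply]
  exact ht w hw

/-- a natural family of maps on points with values in representables defines a map of sheaves -/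
theorem exists_hom_of_pts {Y Q : Sp S}
    (Ψ : ∀ ⦃W : Over S⦄, ((yon S).obj W ⟶ Y) → ((yon S).obj W ⟶ Q))
    (hΨ : ∀ ⦃W W' : Over S⦄ (v : W' ⟶ W) (p : (yon S).obj W ⟶ Y),
      Ψ ((yon S).map v ≫ p) = (yon S).map v ≫ Ψ p) :
    ∃ q : Y ⟶ Q, ∀ ⦃W : Over S⦄ (p : (yon S).obj W ⟶ Y), p ≫ q = Ψ p := by
  let q : Y ⟶ Q := ObjectProperty.homMk
    { app := fun W => ↾fun s => (J S).uliftYonedaEquiv (Ψ ((J S).uliftYonedaEquiv.symm s))
      naturality := fun W W' g => by
        ext s
        change (J S).uliftYonedaEquiv (Ψ ((J S).uliftYonedaEquiv.symm (Y.obj.map g s))) =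
          Q.obj.map g ((J S).uliftYonedaEquiv (Ψ ((J S).uliftYonedaEquiv.symm s)))
        have h1 : (J S).uliftYonedaEquiv.symm (Y.obj.map g s) =
            (yon S).map g.unop ≫ (J S).uliftYonedaEquiv.symm s :=
          ((J S).uliftYonedaEquiv_symm_naturality_left g.unop Y s).symm
        rw [h1, hΨ, ← (J S).uliftYonedaEquiv_naturality'] }
  refine ⟨q, fun W p => ?_⟩
  apply (J S).uliftYonedaEquiv.injective
  rw [(J S).uliftYonedaEquiv_comp]
  change (J S).uliftYonedaEquiv (Ψ ((J S).uliftYonedaEquiv.symm ((J S).uliftYonedaEquiv p))) = _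
  rw [Equiv.symm_apply_apply]

end Groth.Agent.H64.SpQ

namespace Groth.Agent.H64.SpQ

open AlgSp AlgSt

variable {S : Scheme.{u}}

/-- the morphism of schemes underlying a map of representable sheaves -/
noncomputable def unYon {W U : Over S} (a : (yon S).obj W ⟶ (yon S).obj U) : W ⟶ U :=
  (yon S).preimage a

@[simp] theorem map_unYon {W U : Over S} (a : (yon S).obj W ⟶ (yon S).obj U) :
    (yon S).map (unYon a) = a := (yon S).map_preimage a

@[simp] theorem unYon_map {W U : Over S} (w : W ⟶ U) : unYon ((yon S).map w) = w :=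
  (yon S).map_injective (map_unYon _)

theorem unYon_comp {W' W U : Over S} (v : W' ⟶ W) (a : (yon S).obj W ⟶ (yon S).obj U) :
    unYon ((yon S).map v ≫ a) = v ≫ unYon a := by
  apply (yon S).map_injective
  rw [map_unYon, Functor.map_comp, map_unYon]

section sieve

variable {Y Q : Sp S} {U : Over S} (y : Y ⟶ (yon S).obj U) (R : Sieve U)

/-- a point of `Y` lying over a member of the sieve -/
def Small {W : Over S} (p : (yon S).obj W ⟶ Y) : Prop := R (unYon (p ≫ y))

theorem small_comp {W W' : Over S} (v : W' ⟶ W) {p : (yon S).obj W ⟶ Y} (hp : Small y R p) :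
    Small y R ((yon S).map v ≫ p) := by
  unfold Small
  rw [Category.assoc, unYon_comp]
  exact R.downward_closed hp v

theorem small_of_eq {W : Over S} (p : (yon S).obj W ⟶ Y) (w : W ⟶ U) (hw : R w)
    (e : p ≫ y = (yon S).map w) : Small y R p := by
  unfold Small
  rw [e, unYon_map]
  exact hw

theorem pullback_mem {W : Over S} (p : (yon S).obj W ⟶ Y) {W' : Over S} (v : W' ⟶ W) :
    (R.pullback (unYon (p ≫ y))) v ↔ Small y R ((yon S).map v ≫ p) := by
  unfold Small
  rw [Category.assoc, unYon_comp]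
  rfl

/-- maps out of `Y` are determined by their values on the points lying over the sieve -/
theorem hom_ext_of_sieve (hR : R ∈ J S U) (q q' : Y ⟶ Q)
    (h : ∀ ⦃W : Over S⦄ (p : (yon S).obj W ⟶ Y), Small y R p → p ≫ q = p ≫ q') : q = q' := by
  refine Groth.Agent.H53.sp_hom_ext fun W p => ?_
  refine Groth.Agent.H53.yon_hom_ext_of_sieve _ _ (R.pullback (unYon (p ≫ y)))
    ((J S).pullback_stable _ hR) fun W' v hv => ?_
  rw [← Category.assoc, ← Category.assoc]
  exact h _ ((pullback_mem y R p v).1 hv)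

/-- maps out of `Y` can be defined on the points lying over the sieve -/
theorem exists_desc_of_sieve (hR : R ∈ J S U)
    (Φ : ∀ ⦃W : Over S⦄ (p : (yon S).obj W ⟶ Y), Small y R p → ((yon S).obj W ⟶ Q))
    (hΦ : ∀ ⦃W W' : Over S⦄ (v : W' ⟶ W) (p : (yon S).obj W ⟶ Y) (hp : Small y R p),
      Φ ((yon S).map v ≫ p) (small_comp y R v hp) = (yon S).map v ≫ Φ p hp) :
    ∃ q : Y ⟶ Q, ∀ ⦃W : Over S⦄ (p : (yon S).obj W ⟶ Y) (hp : Small y R p), p ≫ q = Φ p hp := by
  have Φ_congr : ∀ {W : Over S} {p p' : (yon S).obj W ⟶ Y} (e : p = p') (hp : Small y R p)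
      (hp' : Small y R p'), Φ p hp = Φ p' hp' := by
    intro W p p' e hp hp'
    subst e
    rfl
  -- the value on an arbitrary point
  have key : ∀ ⦃W : Over S⦄ (p : (yon S).obj W ⟶ Y), ∃ a : (yon S).obj W ⟶ Q,
      ∀ ⦃W' : Over S⦄ (v : W' ⟶ W) (hv : Small y R ((yon S).map v ≫ p)),
        (yon S).map v ≫ a = Φ ((yon S).map v ≫ p) hv := by
    intro W p
    obtain ⟨a, ha⟩ := exists_glue_yon (F := Q) (R.pullback (unYon (p ≫ y)))
      ((J S).pullback_stable _ hR)
      (fun W' v hv => Φ ((yon S).map v ≫ p) ((pullback_mem y R p v).1 hv))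
      (fun W' W'' v hv v' => by
        have e : (yon S).map (v' ≫ v) ≫ p = (yon S).map v' ≫ (yon S).map v ≫ p := by
          rw [Functor.map_comp, Category.assoc]
        rw [← hΦ v' _ ((pullback_mem y R p v).1 hv)]
        exact Φ_congr e _ _)
    exact ⟨a, fun W' v hv => ha v ((pullback_mem y R p v).2 hv)⟩
  choose Ψ hΨ using key
  have hΨnat : ∀ ⦃W W' : Over S⦄ (g : W' ⟶ W) (p : (yon S).obj W ⟶ Y),
      Ψ ((yon S).map g ≫ p) = (yon S).map g ≫ Ψ p := by
    intro W W' g p
    refine Groth.Agent.H53.yon_hom_ext_of_sieve _ _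
      (R.pullback (unYon (((yon S).map g ≫ p) ≫ y))) ((J S).pullback_stable _ hR)
      fun W'' v hv => ?_
    have hv1 : Small y R ((yon S).map v ≫ (yon S).map g ≫ p) := (pullback_mem y R _ v).1 hv
    have e : (yon S).map v ≫ (yon S).map g ≫ p = (yon S).map (v ≫ g) ≫ p := by
      rw [Functor.map_comp, Category.assoc]
    have hv2 : Small y R ((yon S).map (v ≫ g) ≫ p) := e ▸ hv1
    have h2 : (yon S).map v ≫ (yon S).map g ≫ Ψ p = Φ ((yon S).map (v ≫ g) ≫ p) hv2 := by
      rw [← hΨ p (v ≫ g) hv2, Functor.map_comp, Category.assoc]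
    rw [hΨ _ v hv1, h2]
    exact Φ_congr e _ _
  obtain ⟨q, hq⟩ := exists_hom_of_pts (fun W p => Ψ p) hΨnat
  refine ⟨q, fun W p hp => ?_⟩
  rw [hq]
  have e : (yon S).map (𝟙 W) ≫ p = p := by
    rw [CategoryTheory.Functor.map_id, Category.id_comp]
  have h1 := hΨ p (𝟙 W) (e.symm ▸ hp)
  have h2 : Ψ p = (yon S).map (𝟙 W) ≫ Ψ p := by
    rw [CategoryTheory.Functor.map_id, Category.id_comp]
  rw [h2, h1]
  exact Φ_congr e _ _

end sieve

end Groth.Agent.H64.SpQ
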