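import Groth.Agent.H64.SpQ.TorsLemmas

/-!
# Points over the base sheaf: extension and descent along a sieve
-/

set_option autoImplicit false
universe u
open CategoryTheory CategoryTheory.Limits AlgebraicGeometry Opposite

namespace Groth.Agent.H64.SpQ

open AlgSp AlgSt

variable {S : Scheme.{u}} {B : AlgSp.Sp S}

theorem unYon_comp_map {W U U' : Over S} (a : (yon S).obj W ⟶ (yon S).obj U) (w : U ⟶ U') :
    unYon (a ≫ (yon S).map w) = unYon a ≫ w := by
  apply (yon S).map_injective
  rw [map_unYon, Functor.map_comp, map_unYon]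

/-- the identity of a scheme, between two equal sections of `B` -/
abbrev idB {W : Over S} {β β' : (yon S).obj W ⟶ B} (e : β' = β) : yB W β ⟶ yB W β' :=
  Over.homMk (𝟙 _) (by simp [e])

/-- a point is determined by its underlying map of sheaves -/
theorem pt_congr {Z : Over B} {W : Over S} {β β' : (yon S).obj W ⟶ B} (p : yB W β ⟶ Z)
    (p' : yB W β' ⟶ Z) (h : p.left = p'.left) : ∃ e : β' = β, p = idB e ≫ p' := by
  have e : β' = β := by
    have h1 : p.left ≫ Z.hom = β := Over.w p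
    have h2 : p'.left ≫ Z.hom = β' := Over.w p'
    rw [← h1, ← h2, h]
  refine ⟨e, ?_⟩
  apply Over.OverMorphism.ext
  change p.left = 𝟙 _ ≫ p'.left
  rw [Category.id_comp, h]

section sieve

variable {Y Q : Over B} {U : Over S} {b : (yon S).obj U ⟶ B} (y : Y ⟶ yB U b) (R : Sieve U)

/-- a point of `Y` lying over a member of the sieve -/
def SmallB {W : Over S} {β : (yon S).obj W ⟶ B} (p : yB W β ⟶ Y) : Prop := Small y.left R p.left

theorem smallB_iff {W : Over S} {β : (yon S).obj W ⟶ B} (p : yB W β ⟶ Y) :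
    SmallB y R p ↔ R (unYon (p ≫ y).left) := Iff.rfl

theorem smallB_comp {W W' : Over S} (v : W' ⟶ W) {β : (yon S).obj W ⟶ B} {p : yB W β ⟶ Y}
    (hp : SmallB y R p) : SmallB y R (rB v β ≫ p) :=
  small_comp y.left R v hp

theorem smallB_idB {W : Over S} {β β' : (yon S).obj W ⟶ B} (e : β' = β) {p : yB W β' ⟶ Y}
    (hp : SmallB y R p) : SmallB y R (idB e ≫ p) := by
  subst e
  have : idB rfl ≫ p = p := by
    apply Over.OverMorphism.ext
    exact Category.id_comp _
  rw [this]
  exact hp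

/-- maps out of `Y` over `B` are determined by their values on the points lying over the sieve -/
theorem hom_ext_of_sieveB (hR : R ∈ J S U) (q q' : Y ⟶ Q)
    (h : ∀ ⦃W : Over S⦄ (β : (yon S).obj W ⟶ B) (p : yB W β ⟶ Y), SmallB y R p →
      p ≫ q = p ≫ q') : q = q' := by
  apply Over.OverMorphism.ext
  refine hom_ext_of_sieve y.left R hR _ _ fun W p hp => ?_
  exact congrArg CommaMorphism.left (h (p ≫ Y.hom) (ptOf p) hp)

/-- maps out of `Y` over `B` can be defined on the points lying over the sieve -/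
theorem exists_desc_of_sieveB (hR : R ∈ J S U)
    (Φ : ∀ ⦃W : Over S⦄ (β : (yon S).obj W ⟶ B) (p : yB W β ⟶ Y), SmallB y R p → (yB W β ⟶ Q))
    (hΦ : ∀ ⦃W W' : Over S⦄ (v : W' ⟶ W) (β : (yon S).obj W ⟶ B) (p : yB W β ⟶ Y)
      (hp : SmallB y R p), Φ _ (rB v β ≫ p) (smallB_comp y R v hp) = rB v β ≫ Φ β p hp) :
    ∃ q : Y ⟶ Q, ∀ ⦃W : Over S⦄ (β : (yon S).obj W ⟶ B) (p : yB W β ⟶ Y) (hp : SmallB y R p),
      p ≫ q = Φ β p hp := by
  have Φ_congr : ∀ {W : Over S} {β β' : (yon S).obj W ⟶ B} (p : yB W β ⟶ Y) (p' : yB W β' ⟶ Y)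
      (_ : p.left = p'.left) (hp : SmallB y R p) (hp' : SmallB y R p'),
      (Φ β p hp).left = (Φ β' p' hp').left := by
    intro W β β' p p' h hp hp'
    obtain ⟨e, he⟩ := pt_congr p p' h
    subst e
    have : p = p' := by
      rw [he]
      apply Over.OverMorphism.ext
      exact Category.id_comp _
    subst this
    rfl
  obtain ⟨q₀, hq₀⟩ := exists_desc_of_sieve (Q := Q.left) y.left R hR
    (fun W p hp => (Φ (p ≫ Y.hom) (ptOf p) hp).left)
    (fun W W' v p hp => by
      have h1 := congrArg CommaMorphism.left (hΦ v (p ≫ Y.hom) (ptOf p) hp)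
      refine (Φ_congr _ _ ?_ _ _).trans h1
      rfl)
  have hB : q₀ ≫ Q.hom = Y.hom := by
    refine hom_ext_of_sieve y.left R hR _ _ fun W p hp => ?_
    rw [← Category.assoc, hq₀ p hp]
    exact Over.w (Φ (p ≫ Y.hom) (ptOf p) hp)
  refine ⟨Over.homMk q₀ hB, fun W β p hp => ?_⟩
  apply Over.OverMorphism.ext
  change p.left ≫ q₀ = _
  rw [hq₀ p.left hp]
  exact Φ_congr (ptOf p.left) p rfl _ _

end sieve

end Groth.Agent.H64.SpQ
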