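import Groth.Agent.H64.Stk.Basic
import Groth.Prelude.Def_AlgSt3

/-!
# The inclusion of a full subcategory containing every object is an equivalence over the base
-/

set_option autoImplicit false
universe w v u
open CategoryTheory AlgebraicGeometry

namespace Groth.Agent.H64.SpQ

variable {S : Scheme.{u}}

theorem isEquivOver_subIncl_of_forall (𝒳 : BasedCategory.{v, w} (Over S)) (Q : 𝒳.obj → Prop)
    (h : ∀ A, Q A) : FibCat.IsEquivOver (AlgSt.subIncl 𝒳 Q) := by
  let inv : 𝒳 ⥤ᵇ AlgSt.fullSub 𝒳 Q :=
    { toFunctor := ObjectProperty.lift Q (𝟭 _) h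
      w := rfl }
  refine ⟨inv, ⟨?_⟩, ⟨?_⟩⟩
  · refine mkBIso (fun a => Iso.refl _) (fun {a b} m => ?_) (fun a => ?_)
    · exact (Category.comp_id _).trans (Category.id_comp _).symm
    · exact IsHomLift.id rfl
  · refine mkBIso (fun a => Iso.refl _) (fun {a b} m => ?_) (fun a => ?_)
    · exact (Category.comp_id _).trans (Category.id_comp _).symm
    · exact IsHomLift.id rfl

end Groth.Agent.H64.SpQ
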