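import Groth.Agent.H64.SpQ.FibGrpd

/-!
# Torsor lemmas for `[X/G]` with sheaf torsors
-/

set_option autoImplicit false
universe u
open CategoryTheory CategoryTheory.Limits MonoidalCategory CartesianMonoidalCategory MonObj GrpObj
  AlgebraicGeometry Opposite

namespace Groth.Agent.H64.SpQ

open AlgSp AlgSt

variable {S : Scheme.{u}} {K : Precoverage Scheme.{u}} {B : AlgSp.Sp S} {G : Over B} [GrpObj G]
  {X : Over B} {aX : AlgSp.GAction G X}

section pts

/-- points over `B` with values in a scheme are determined locally -/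
theorem pt_ext_of_sieve {Z : Over B} {W : Over S} {β : (yon S).obj W ⟶ B} (a a' : yB W β ⟶ Z)
    (R : Sieve W) (hR : R ∈ J S W)
    (h : ∀ ⦃W' : Over S⦄ (v : W' ⟶ W), R v → rB v β ≫ a = rB v β ≫ a') : a = a' := by
  apply Over.OverMorphism.ext
  refine Groth.Agent.H53.yon_hom_ext_of_sieve _ _ R hR fun W' v hv => ?_
  exact congrArg CommaMorphism.left (h v hv)

/-- points over `B` with values in a scheme glue -/
theorem exists_glue_pt {Z : Over B} {W : Over S} (β : (yon S).obj W ⟶ B) (R : Sieve W)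
    (hR : R ∈ J S W)
    (x : ∀ ⦃W' : Over S⦄ (v : W' ⟶ W), R v → (yB W' ((yon S).map v ≫ β) ⟶ Z))
    (hx : ∀ ⦃W' W'' : Over S⦄ (v : W' ⟶ W) (hv : R v) (v' : W'' ⟶ W'),
      (x (v' ≫ v) (R.downward_closed hv v')).left = (yon S).map v' ≫ (x v hv).left) :
    ∃ a : yB W β ⟶ Z, ∀ ⦃W' : Over S⦄ (v : W' ⟶ W) (hv : R v), rB v β ≫ a = x v hv := by
  obtain ⟨a₀, ha₀⟩ := exists_glue_yon (F := Z.left) R hR (fun W' v hv => (x v hv).left) hx
  have hβ : a₀ ≫ Z.hom = β := by
    refine Groth.Agent.H53.yon_hom_ext_of_sieve _ _ R hR fun W' v hv => ?_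
    rw [← Category.assoc, ha₀ v hv]
    exact Over.w (x v hv)
  refine ⟨Over.homMk a₀ hβ, fun W' v hv => ?_⟩
  apply Over.OverMorphism.ext
  exact ha₀ v hv

end pts

section free

variable (A : SpQuotObj K G aX)

/-- the action on points -/
noncomputable abbrev actPt {W : Over B} (ga : W ⟶ G) (p : W ⟶ A.P) : W ⟶ A.P :=
  lift ga p ≫ A.act.act

theorem actPt_π {W : Over B} (ga : W ⟶ G) (p : W ⟶ A.P) : actPt A ga p ≫ A.π = p ≫ A.π := by
  rw [Category.assoc, A.cart.w, lift_snd_assoc]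

theorem actPt_comp {W W' : Over B} (v : W' ⟶ W) (ga : W ⟶ G) (p : W ⟶ A.P) :
    v ≫ actPt A ga p = actPt A (v ≫ ga) (v ≫ p) := by
  rw [← Category.assoc, comp_lift]

theorem actPt_one {W : Over B} (p : W ⟶ A.P) : actPt A 1 p = p := act_one_pt A.act p

theorem actPt_mul {W : Over B} (ga de : W ⟶ G) (p : W ⟶ A.P) :
    actPt A (ga * de) p = actPt A ga (actPt A de p) := act_mul_pt A.act ga de p

/-- two points of a torsor over the same point of the base differ by a unique point of `G` -/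
theorem exists_actPt_eq {W : Over B} (p₁ p₂ : W ⟶ A.P) (h : p₁ ≫ A.π = p₂ ≫ A.π) :
    ∃ ga : W ⟶ G, actPt A ga p₂ = p₁ := by
  refine ⟨A.cart.lift p₁ p₂ h ≫ fst G A.P, ?_⟩
  have e : lift (A.cart.lift p₁ p₂ h ≫ fst G A.P) p₂ = A.cart.lift p₁ p₂ h := by
    apply CartesianMonoidalCategory.hom_ext
    · rw [lift_fst]
    · rw [lift_snd, A.cart.lift_snd]
  change lift _ _ ≫ _ = _
  rw [e, A.cart.lift_fst]

theorem actPt_inj {W : Over B} (ga ga' : W ⟶ G) (p : W ⟶ A.P) (h : actPt A ga p = actPt A ga' p) :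
    ga = ga' := by
  have e : lift ga p = lift ga' p := by
    apply A.cart.hom_ext
    · exact h
    · rw [lift_snd, lift_snd]
  have := congrArg (fun t => t ≫ fst G A.P) e
  simpa using this

theorem φ_actPt {W : Over B} (ga : W ⟶ G) (p : W ⟶ A.P) :
    actPt A ga p ≫ A.φ = lift ga (p ≫ A.φ) ≫ aX.act := by
  rw [Category.assoc, A.eqv, ← Category.assoc]
  congr 1
  apply CartesianMonoidalCategory.hom_ext
  · simp only [Category.assoc, whiskerLeft_fst, lift_fst]
  · simp only [Category.assoc, whiskerLeft_snd, lift_snd, lift_snd_assoc]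

end free

/-- equivariance on points -/
theorem eqv_pt {A A' : SpQuotObj K G aX} (τ : A.P ⟶ A'.P)
    (heqv : A.act.act ≫ τ = (G ◁ τ) ≫ A'.act.act) {W : Over B} (ga : W ⟶ G) (p : W ⟶ A.P) :
    actPt A ga p ≫ τ = actPt A' ga (p ≫ τ) := by
  rw [Category.assoc, heqv, ← Category.assoc]
  congr 1
  apply CartesianMonoidalCategory.hom_ext
  · simp only [Category.assoc, whiskerLeft_fst, lift_fst]
  · simp only [Category.assoc, whiskerLeft_snd, lift_snd, lift_snd_assoc]

/-- equivariance from equivariance on points -/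
theorem eqv_of_pt {A A' : SpQuotObj K G aX} (τ : A.P ⟶ A'.P)
    (h : actPt A (fst G A.P) (snd G A.P) ≫ τ = actPt A' (fst G A.P) (snd G A.P ≫ τ)) :
    A.act.act ≫ τ = (G ◁ τ) ≫ A'.act.act := by
  have e1 : actPt A (fst G A.P) (snd G A.P) = A.act.act := by
    change lift _ _ ≫ _ = _
    rw [lift_fst_snd, Category.id_comp]
  have e2 : lift (fst G A.P) (snd G A.P ≫ τ) = G ◁ τ := by
    apply CartesianMonoidalCategory.hom_ext
    · rw [lift_fst, whiskerLeft_fst]
    · rw [lift_snd, whiskerLeft_snd]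
  rw [e1] at h
  rw [h]
  change lift _ _ ≫ _ = _
  rw [e2]

section cart

variable {A A' : SpQuotObj Scheme.fppfPrecoverage G aX} (b : bs A ⟶ bs A')
  (τ : A.P ⟶ A'.P) (hw : τ ≫ A'.π = A.π ≫ b) (heqv : A.act.act ≫ τ = (G ◁ τ) ≫ A'.act.act)

include heqv in
theorem lift_unique_of_eqv {W : Over B} (l l' : W ⟶ A.P) (h1 : l ≫ τ = l' ≫ τ)
    (h2 : l ≫ A.π = l' ≫ A.π) : l = l' := by
  obtain ⟨ga, hga⟩ := exists_actPt_eq A l l' h2
  have h3 : actPt A' ga (l' ≫ τ) = actPt A' 1 (l' ≫ τ) := by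
    rw [← eqv_pt τ heqv, hga, h1, actPt_one]
  have h4 : ga = 1 := actPt_inj A' _ _ _ h3
  rw [← hga, h4, actPt_one]

include hw heqv

theorem exists_lift_of_section {W : Over B} (p : W ⟶ A'.P) (s : W ⟶ A.P)
    (h : p ≫ A'.π = s ≫ A.π ≫ b) : ∃ l : W ⟶ A.P, l ≫ τ = p ∧ l ≫ A.π = s ≫ A.π := by
  have h1 : p ≫ A'.π = (s ≫ τ) ≫ A'.π := by rw [Category.assoc, hw, h]
  obtain ⟨ga, hga⟩ := exists_actPt_eq A' p (s ≫ τ) h1
  exact ⟨actPt A ga s, by rw [eqv_pt τ heqv, hga], actPt_π A ga s⟩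

/-- an equivariant map of torsors over a map of bases is cartesian: existence of lifts -/
theorem exists_lift_of_eqv {W : Over S} {β : (yon S).obj W ⟶ B} (p : yB W β ⟶ A'.P)
    (w : yB W β ⟶ bs A) (h : p ≫ A'.π = w ≫ b) :
    ∃ l : yB W β ⟶ A.P, l ≫ τ = p ∧ l ≫ A.π = w := by
  have hwβ : w.left ≫ A.b = β := Over.w w
  have hcov : (secSieve A).pullback (unYon w.left) ∈ J S W :=
    (J S).pullback_stable _ (secSieve_mem A)
  have hloc : ∀ ⦃W' : Over S⦄ (v : W' ⟶ W), (secSieve A).pullback (unYon w.left) v →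
      ∃ l : yB W' ((yon S).map v ≫ β) ⟶ A.P, l ≫ τ = rB v β ≫ p ∧ l ≫ A.π = rB v β ≫ w := by
    rintro W' v ⟨s, hs⟩
    have hsB : s ≫ A.P.hom = (yon S).map v ≫ β := by
      have h1 : A.π.left ≫ A.b = A.P.hom := Over.w A.π
      rw [← h1, ← Category.assoc, hs, Functor.map_comp, map_unYon, Category.assoc, hwβ]
    let s' : yB W' ((yon S).map v ≫ β) ⟶ A.P := Over.homMk s hsB
    have hs' : s' ≫ A.π = rB v β ≫ w := by
      apply Over.OverMorphism.ext
      change s ≫ A.π.left = (yon S).map v ≫ w.left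
      rw [hs, Functor.map_comp, map_unYon]
    obtain ⟨l, hl1, hl2⟩ := exists_lift_of_section b τ hw heqv (rB v β ≫ p) s' (by
      rw [Category.assoc, h, ← Category.assoc s', hs', Category.assoc])
    exact ⟨l, hl1, hl2.trans hs'⟩
  choose x hx1 hx2 using hloc
  obtain ⟨l, hl⟩ := exists_glue_pt β _ hcov x (by
    intro W₁ W₂ v hv v'
    have hB : ((yon S).map v' ≫ (x v hv).left) ≫ A.P.hom = (yon S).map (v' ≫ v) ≫ β := by
      rw [Category.assoc, Over.w (x v hv), Functor.map_comp, Category.assoc]; rfl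
    let l' : yB W₂ ((yon S).map (v' ≫ v) ≫ β) ⟶ A.P := Over.homMk _ hB
    have e1 : (x v hv).left ≫ τ.left = (yon S).map v ≫ p.left :=
      congrArg CommaMorphism.left (hx1 v hv)
    have e2 : (x v hv).left ≫ A.π.left = (yon S).map v ≫ w.left :=
      congrArg CommaMorphism.left (hx2 v hv)
    have e : x (v' ≫ v) ((secSieve A).pullback (unYon w.left) |>.downward_closed hv v') = l' := by
      apply lift_unique_of_eqv τ heqv
      · rw [hx1]
        apply Over.OverMorphism.ext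
        change (yon S).map (v' ≫ v) ≫ p.left = ((yon S).map v' ≫ (x v hv).left) ≫ τ.left
        rw [Category.assoc, e1, Functor.map_comp, Category.assoc]
      · rw [hx2]
        apply Over.OverMorphism.ext
        change (yon S).map (v' ≫ v) ≫ w.left = ((yon S).map v' ≫ (x v hv).left) ≫ A.π.left
        rw [Category.assoc, e2, Functor.map_comp, Category.assoc]
    exact congrArg CommaMorphism.left e)
  refine ⟨l, ?_, ?_⟩
  · refine pt_ext_of_sieve _ _ _ hcov fun W' v hv => ?_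
    rw [← Category.assoc, hl v hv, hx1]
  · refine pt_ext_of_sieve _ _ _ hcov fun W' v hv => ?_
    rw [← Category.assoc, hl v hv, hx2]

/-- an equivariant map of torsors over a map of bases is cartesian -/
theorem cart_of_eqv : IsPullback τ A.π A'.π b := by
  refine isPullback_of_pts hw ?_ ?_
  · intro W β p w h
    exact exists_lift_of_eqv b τ hw heqv p w h
  · intro W β l l' h1 h2
    exact lift_unique_of_eqv τ heqv l l' h1 h2

end cart

end Groth.Agent.H64.SpQ
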