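import Groth.Agent.H64.SpQ.TorsLemmas

/-!
# Trivial torsors in `[X/G]` (sheaf torsors) and morphisms out of them
-/

set_option autoImplicit false
set_option linter.unusedSimpArgs false
universe u
open CategoryTheory CategoryTheory.Limits MonoidalCategory CartesianMonoidalCategory MonObj GrpObj
  AlgebraicGeometry Opposite

namespace Groth.Agent.H64.SpQ

open AlgSp AlgSt

variable {S : Scheme.{u}} {K : Precoverage Scheme.{u}} {B : AlgSp.Sp S} {G : Over B} [GrpObj G]
  {X : Over B} {aX : AlgSp.GAction G X}

section unit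

/-- the unit section of the trivial torsor -/
noncomputable def unitSec (G : Over B) [GrpObj G] (W : Over B) : W ⟶ G ⊗ W :=
  lift (toUnit W ≫ η[G]) (𝟙 W)

@[reassoc (attr := simp)] theorem unitSec_snd (W : Over B) : unitSec G W ≫ snd G W = 𝟙 W :=
  lift_snd _ _

@[reassoc (attr := simp)] theorem unitSec_fst (W : Over B) :
    unitSec G W ≫ fst G W = toUnit W ≫ η[G] := lift_fst _ _

theorem unitSec_fst_eq_one (W : Over B) : unitSec G W ≫ fst G W = 1 := by
  rw [unitSec_fst, ← Hom.one_def]

theorem unitSec_eq (W : Over B) : unitSec G W = lift (1 : W ⟶ G) (𝟙 W) := by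
  unfold unitSec
  rw [← Hom.one_def]

theorem comp_unitSec {W W' : Over B} (f : W' ⟶ W) :
    f ≫ unitSec G W = unitSec G W' ≫ (G ◁ f) := by
  apply CartesianMonoidalCategory.hom_ext
  · rw [Category.assoc, unitSec_fst, Category.assoc, whiskerLeft_fst, unitSec_fst,
      ← Category.assoc, toUnit_unique (f ≫ toUnit W) (toUnit W')]
  · rw [Category.assoc, unitSec_snd, Category.assoc, whiskerLeft_snd, unitSec_snd_assoc,
      Category.comp_id]

/-- `(h, t) ↦ (h, (1, t))` is a section of the left multiplication -/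
theorem sigma_leftMul (W : Over B) :
    lift (fst G W) (snd G W ≫ unitSec G W) ≫ (spLeftMul G W).act = 𝟙 (G ⊗ W) := by
  apply CartesianMonoidalCategory.hom_ext
  · simp only [spLeftMul, Category.assoc, lift_fst, lift_snd, comp_lift, comp_mul, lift_snd_assoc,
      lift_fst_assoc, unitSec_fst_eq_one, MonObj.comp_one, _root_.mul_one, Category.id_comp]
  · simp only [spLeftMul, Category.assoc, lift_snd, lift_snd_assoc, unitSec_snd, Category.comp_id,
      Category.id_comp]

/-- the unit acts trivially, in terms of points -/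
theorem unitSec_act {W Z : Over B} (a : AlgSp.GAction G Z) (x : W ⟶ Z) :
    unitSec G W ≫ (G ◁ x) ≫ a.act = x := by
  have h : unitSec G W ≫ (G ◁ x) = lift (1 : W ⟶ G) x := by
    apply CartesianMonoidalCategory.hom_ext
    · rw [Category.assoc, whiskerLeft_fst, unitSec_fst_eq_one, lift_fst]
    · rw [Category.assoc, whiskerLeft_snd, unitSec_snd_assoc, lift_snd]
  rw [← Category.assoc, h, act_one_pt]

/-- the orbit map of a point is equivariant for the left multiplication -/
theorem leftMul_eqv {W Z : Over B} (a : AlgSp.GAction G Z) (p : W ⟶ Z) :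
    (spLeftMul G W).act ≫ (G ◁ p) ≫ a.act = (G ◁ ((G ◁ p) ≫ a.act)) ≫ a.act := by
  have hμ : fst (G ⊗ G) Z ≫ μ[G] = (fst _ _ ≫ fst G G) * (fst _ _ ≫ snd G G) := by
    rw [Hom.mul_def, ← comp_lift, lift_fst_snd, Category.comp_id]
  have h : (spLeftMul G W).act ≫ (G ◁ p) = (G ◁ (G ◁ p)) ≫ (α_ G G Z).inv ≫ (μ[G] ▷ Z) := by
    apply CartesianMonoidalCategory.hom_ext
    · simp only [spLeftMul, Category.assoc, lift_fst, lift_snd, lift_fst_assoc, lift_snd_assoc,
        comp_lift, comp_mul, whiskerLeft_fst, whiskerLeft_snd, whiskerLeft_fst_assoc,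
        whiskerLeft_snd_assoc, whiskerRight_fst, whiskerRight_snd, whiskerRight_fst_assoc,
        whiskerRight_snd_assoc, associator_inv_fst_fst, associator_inv_fst_snd,
        associator_inv_snd, associator_inv_fst_fst_assoc, associator_inv_fst_snd_assoc,
        associator_inv_snd_assoc, hμ]
    · simp only [spLeftMul, Category.assoc, lift_fst, lift_snd, lift_fst_assoc, lift_snd_assoc,
        comp_lift, comp_mul, whiskerLeft_fst, whiskerLeft_snd, whiskerLeft_fst_assoc,
        whiskerLeft_snd_assoc, whiskerRight_fst, whiskerRight_snd, whiskerRight_fst_assoc,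
        whiskerRight_snd_assoc, associator_inv_fst_fst, associator_inv_fst_snd,
        associator_inv_snd, associator_inv_fst_fst_assoc, associator_inv_fst_snd_assoc,
        associator_inv_snd_assoc]
  have hm : (G ◁ a.act) ≫ a.act = (α_ G G Z).inv ≫ (μ[G] ▷ Z) ≫ a.act := by
    rw [a.mul_act, Iso.inv_hom_id_assoc]
  rw [MonoidalCategory.whiskerLeft_comp, Category.assoc, hm, reassoc_of% h]

end unit

section triv

variable [K.HasIsos]

/-- the base of the trivial torsor attached to a section of `X`, over `B` -/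
noncomputable abbrev tB (a : (ofSp X.left).obj) : Over B := Over.mk (secYon a ≫ X.hom)

/-- the trivial torsor attached to a section of `X` -/
noncomputable abbrev triv (K : Precoverage Scheme.{u}) [K.HasIsos] (aX : AlgSp.GAction G X)
    (a : (ofSp X.left).obj) : SpQuotObj K G aX := (spQuotMap K G aX).obj a

/-- a point of the total space of a torsor over a section of `X` trivialises the pullback -/
noncomputable def ofSec (A : SpQuotObj K G aX) (a : (ofSp X.left).obj) (sB : tB a ⟶ A.P)
    (h : sB ≫ A.φ = secOver a) : triv K aX a ⟶ A where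
  base := unYon (sB ≫ A.π).left
  wb := by
    rw [map_unYon]
    exact Over.w (sB ≫ A.π)
  top := (G ◁ sB) ≫ A.act.act
  eqv := leftMul_eqv A.act sB
  cart := by
    have h1 := (isPullback_whiskerLeft' (G := G) sB).paste_horiz A.cart
    have e : sB ≫ A.π = bHom (unYon (sB ≫ A.π).left) (by
        rw [map_unYon]
        exact Over.w (sB ≫ A.π)) := by
      apply Over.OverMorphism.ext
      exact (map_unYon _).symm
    rw [e] at h1
    exact h1
  wφ := by
    change ((G ◁ sB) ≫ A.act.act) ≫ A.φ = (G ◁ secOver a) ≫ aX.act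
    rw [Category.assoc, A.eqv, ← MonoidalCategory.whiskerLeft_comp_assoc, h]

@[simp] theorem ofSec_base (A : SpQuotObj K G aX) (a : (ofSp X.left).obj) (sB : tB a ⟶ A.P)
    (h : sB ≫ A.φ = secOver a) : (ofSec A a sB h).base = unYon (sB ≫ A.π).left := rfl

@[simp] theorem ofSec_top (A : SpQuotObj K G aX) (a : (ofSp X.left).obj) (sB : tB a ⟶ A.P)
    (h : sB ≫ A.φ = secOver a) : (ofSec A a sB h).top = (G ◁ sB) ≫ A.act.act := rfl

/-- the total-space map of a morphism out of a trivial torsor, with its source unfolded -/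
noncomputable def topT {a : (ofSp X.left).obj} {A : SpQuotObj K G aX} (lam : triv K aX a ⟶ A) :
    G ⊗ tB a ⟶ A.P := lam.top

theorem topT_eq {a : (ofSp X.left).obj} {A : SpQuotObj K G aX} (lam : triv K aX a ⟶ A) :
    topT lam = lam.top := rfl

theorem topT_ofSec (A : SpQuotObj K G aX) (a : (ofSp X.left).obj) (sB : tB a ⟶ A.P)
    (h : sB ≫ A.φ = secOver a) : topT (ofSec A a sB h) = (G ◁ sB) ≫ A.act.act := rfl

theorem unitSec_ofSec_top (A : SpQuotObj K G aX) (a : (ofSp X.left).obj) (sB : tB a ⟶ A.P)
    (h : sB ≫ A.φ = secOver a) : unitSec G (tB a) ≫ topT (ofSec A a sB h) = sB :=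
  unitSec_act A.act sB

/-- every morphism from a trivial torsor is given by a section: the base -/
theorem base_eq_of_triv {a : (ofSp X.left).obj} {A : SpQuotObj K G aX} (lam : triv K aX a ⟶ A) :
    lam.base = unYon ((unitSec G (tB a) ≫ topT lam) ≫ A.π).left := by
  have h1 : topT lam ≫ A.π = snd G (tB a) ≫ hbs lam := (hom_cart lam).w
  rw [Category.assoc, h1, unitSec_snd_assoc]
  exact (unYon_map _).symm

/-- every morphism from a trivial torsor is given by a section: the total space -/
theorem top_eq_of_triv {a : (ofSp X.left).obj} {A : SpQuotObj K G aX} (lam : triv K aX a ⟶ A) :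
    topT lam = (G ◁ (unitSec G (tB a) ≫ topT lam)) ≫ A.act.act := by
  have he : (spLeftMul G (tB a)).act ≫ topT lam = (G ◁ topT lam) ≫ A.act.act := lam.eqv
  have h1 : topT lam = lift (fst G (tB a)) (snd G (tB a) ≫ unitSec G (tB a)) ≫
      (G ◁ topT lam) ≫ A.act.act := by
    rw [← he, reassoc_of% (sigma_leftMul (G := G) (tB a))]
  refine h1.trans ?_
  rw [← Category.assoc]
  congr 1
  apply CartesianMonoidalCategory.hom_ext
  · simp only [Category.assoc, whiskerLeft_fst, lift_fst]
  · simp only [Category.assoc, whiskerLeft_snd, lift_snd_assoc]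

/-- morphisms out of a trivial torsor are determined by the image of the unit section -/
theorem hom_ext_triv {a : (ofSp X.left).obj} {A : SpQuotObj K G aX} {lam lam' : triv K aX a ⟶ A}
    (h : unitSec G (tB a) ≫ topT lam = unitSec G (tB a) ≫ topT lam') : lam = lam' := by
  apply SpQuotObj.hom_ext
  · rw [base_eq_of_triv lam, base_eq_of_triv lam', h]
  · exact ((top_eq_of_triv lam).trans (by rw [h])).trans (top_eq_of_triv lam').symm

/-- the map to `X` of a morphism out of a trivial torsor, on the unit section -/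
theorem φ_eq_of_triv {a : (ofSp X.left).obj} {A : SpQuotObj K G aX} (lam : triv K aX a ⟶ A) :
    (unitSec G (tB a) ≫ topT lam) ≫ A.φ = secOver a := by
  have h1 : topT lam ≫ A.φ = (G ◁ secOver a) ≫ aX.act := lam.wφ
  rw [Category.assoc, h1, unitSec_act]

/-- every morphism out of a trivial torsor is defined by a section -/
theorem eq_ofSec {a : (ofSp X.left).obj} {A : SpQuotObj K G aX} (lam : triv K aX a ⟶ A) :
    lam = ofSec A a (unitSec G (tB a) ≫ topT lam) (φ_eq_of_triv lam) := by
  apply hom_ext_triv
  rw [unitSec_ofSec_top]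

/-- the canonical functor composed with the morphism defined by a section -/
theorem map_ofSec (A : SpQuotObj K G aX) {a' a : (ofSp X.left).obj} (m : a' ⟶ a)
    (sB : tB a ⟶ A.P) (h : sB ≫ A.φ = secOver a) (sB' : tB a' ⟶ A.P)
    (hs : sB'.left = (yon S).map m.hom ≫ sB.left) (h' : sB' ≫ A.φ = secOver a') :
    (spQuotMap K G aX).map m ≫ ofSec A a sB h = ofSec A a' sB' h' := by
  apply hom_ext_triv
  rw [unitSec_ofSec_top]
  have hw : (yon S).map m.hom ≫ secYon a ≫ X.hom = secYon a' ≫ X.hom := by
    rw [← Category.assoc, secYon_comp]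
  have e1 : topT ((spQuotMap K G aX).map m ≫ ofSec A a sB h) =
      (G ◁ bHom m.hom hw) ≫ (G ◁ sB) ≫ A.act.act := rfl
  have e2 : bHom m.hom hw ≫ sB = sB' := by
    apply Over.OverMorphism.ext
    exact hs.symm
  rw [e1, ← MonoidalCategory.whiskerLeft_comp_assoc, e2]
  exact unitSec_act A.act sB'

end triv

end Groth.Agent.H64.SpQ
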